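import Cfsg.Agent.TID.Red.Eqv

/-!
# S4622, reductions: passing to the stabilizer of a covered block (helper33)

`K` normal in `G`, `N_K(D ∩ K) ≤ N_G(D)`.
-/

set_option autoImplicit false
set_option linter.style.haveILetI false
set_option linter.unusedSectionVars false

open Cfsg
open scoped ComplexConjugate Pointwise

namespace Cfsg.Agent.TID.Red

open Cfsg.Agent Cfsg.Agent.Characters.Core Cfsg.Agent.H592.Transport Cfsg.Agent.H592.Transit
open Cfsg.Agent.Blocks Cfsg.Agent.H591.Reynolds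

universe u v w

variable {p : ℕ} [Fact p.Prime] {M : Ideal AlgInt} {G : Type u} [Group G] [Finite G]

theorem mem_normalizer_subgroupOf {D T : Subgroup G} (h : D ≤ T) (t : T) :
    t ∈ Subgroup.normalizer ((D.subgroupOf T : Subgroup T) : Set T) ↔
      (t : G) ∈ Subgroup.normalizer (D : Set G) := by
  rw [← Subgroup.subgroupOf_normalizer_eq h, Subgroup.mem_subgroupOf]

theorem TI.subgroupOf {D T : Subgroup G} (hTI : TI D) (h : D ≤ T) : TI (D.subgroupOf T) := by
  rw [ti_iff] at hTI ⊢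
  intro g x hx hgx hne
  rw [mem_normalizer_subgroupOf h]
  exact hTI g x hx hgx fun h1 => hne (Subtype.ext h1)

theorem range_inclusion' {A B : Subgroup G} (h : A ≤ B) : (Subgroup.inclusion h).range = A.subgroupOf B :=
  Subgroup.inclusion_range h

/-- conjugation on a subgroup by a normalizing element -/
noncomputable def cjOn (S : Subgroup G) {x : G} (hx : x ∈ Subgroup.normalizer (S : Set G)) : S ≃* S :=
  (Subgroup.normalizerMonoidHom S ⟨x, hx⟩ : MulAut S)

theorem cjOn_coe (S : Subgroup G) {x : G} (hx : x ∈ Subgroup.normalizer (S : Set G)) (s : S) :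
    ((cjOn S hx s : S) : G) = x * s * x⁻¹ := rfl

theorem mem_normalizer_inf {D K : Subgroup G} [hK : K.Normal] {x : G}
    (hx : x ∈ Subgroup.normalizer (D : Set G)) : x ∈ Subgroup.normalizer ((D ⊓ K : Subgroup G) : Set G) := by
  rw [Subgroup.mem_normalizer_iff] at hx ⊢
  intro h
  simp only [Subgroup.mem_inf]
  rw [hx h, hK.mem_comm_iff (a := x * h), ← mul_assoc, inv_mul_cancel, one_mul]

theorem mem_normalizer_of_normal (K : Subgroup G) [hK : K.Normal] (x : G) :
    x ∈ Subgroup.normalizer (K : Set G) := by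
  rw [Subgroup.normalizer_eq_top_iff.2 hK]
  exact Subgroup.mem_top x

/-- **Frattini argument for a stable block.** -/
theorem frattini (hM : IsPModular p M) {K : Subgroup G} [hK : K.Normal] {β : Set (IrrCharacter K)}
    (hβ : IsPBlock M β) {Q : Subgroup G} (hQK : Q ≤ K) (hQ : IsDefectGroup p M β (Q.subgroupOf K))
    {g : G} (hg : StabH K.subtype β g) : ∃ k ∈ K, k * g ∈ Subgroup.normalizer (Q : Set G) := by
  have := Local.isPrime_of_isPModular hM
  set c := cjOn K (mem_normalizer_of_normal K g) with hc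
  have h1 := (stabH_iff_trSet K.subtype_injective c (fun k => cjOn_coe K _ k) hβ).1 hg
  have h2 := isDefectGroup_trSet c hQ
  rw [h1] at h2
  obtain ⟨y, hy⟩ := conj_defect hM hβ hQ h2
  -- `y Q y⁻¹ = g⁻¹ Q g`
  have h3 : g * y ∈ Subgroup.normalizer (Q : Set G) := by
    refine Subgroup.mem_normalizer_fintype fun q hq => ?_
    have h4 : (MulAut.conj y).toMonoidHom ⟨q, hQK hq⟩ ∈ (Q.subgroupOf K).comap c.toMonoidHom :=
      hy ▸ Subgroup.mem_map_of_mem _ (show (⟨q, hQK hq⟩ : K) ∈ Q.subgroupOf K from hq)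
    have h5 : g * ((y : G) * q * (y : G)⁻¹) * g⁻¹ ∈ Q := h4
    have h6 : g * y * q * (g * y)⁻¹ = g * ((y : G) * q * (y : G)⁻¹) * g⁻¹ := by group
    rw [h6]
    exact h5
  refine ⟨g * y * g⁻¹, hK.conj_mem _ y.2 g, ?_⟩
  rwa [inv_mul_cancel_right]

/-- **Reduction to the stabilizer of a covered block.** -/
theorem R13 (hM : IsPModular p M) {B : Set (IrrCharacter G)} (hB : IsPBlock M B) {D : Subgroup G}
    (hD : IsDefectGroup p M B D) (K : Subgroup G) [hK : K.Normal]
    (hL : ∀ k ∈ K, k ∈ Subgroup.normalizer ((D ⊓ K : Subgroup G) : Set G) →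
      k ∈ Subgroup.normalizer (D : Set G)) :
    ∃ (β : Set (IrrCharacter K)) (T : Subgroup G) (B' : Set (IrrCharacter T)),
      IsPBlock M β ∧ IsDefectGroup p M β ((D ⊓ K).subgroupOf K) ∧ CovH K.subtype B β ∧ IsStab β T ∧ D ≤ T ∧
      IsPBlock M B' ∧ IsDefectGroup p M B' (D.subgroupOf T) ∧
      (Eqv p M B' (D.subgroupOf T) → Eqv p M B D) := by
  have := Local.isPrime_of_isPModular hM
  have hDp := H592.Defect.isPGroup_of_isDefectGroup hD
  set N := Subgroup.normalizer (D : Set G) with hN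
  have hDN : D ≤ N := Subgroup.le_normalizer
  obtain ⟨b, hb⟩ := exists_induced hM hB hD
  have hbD := defect_of_induced hM hD hb
  have hDn : (D.subgroupOf N).Normal := normal_subgroupOf_normalizer D
  -- the block `β*` of `L = N ∩ K`
  set L : Subgroup G := N ⊓ K with hLdef
  let lam : L →* N := Subgroup.inclusion inf_le_left
  let mu : L →* K := Subgroup.inclusion inf_le_right
  have hlam : Function.Injective lam := Subgroup.inclusion_injective _
  have hmu : Function.Injective mu := Subgroup.inclusion_injective _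
  have hlamr : ∀ n : N, n ∈ lam.range ↔ (n : G) ∈ K := by
    intro n
    rw [range_inclusion', Subgroup.mem_subgroupOf]
    exact ⟨fun h => h.2, fun h => ⟨n.2, h⟩⟩
  have hlamn : lam.range.Normal := ⟨fun a ha g => (hlamr _).2 (hK.conj_mem _ ((hlamr a).1 ha) g)⟩
  obtain ⟨ξ, hξ⟩ := Basic.isPBlock_nonempty hb.1
  obtain ⟨θ, hθ⟩ := exists_ov lam ξ.2
  set e := blockOf M (θ : L → ℂ) with he
  have hep : IsPBlock M e := Basic.isPBlock_blockOf θ
  have hbe : CovH lam b e := ⟨ξ, hξ, θ, Basic.mem_blockOf_self θ, hθ⟩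
  obtain ⟨Q₀, hQ₀⟩ := H592.Defect.exists_defectGroup p hM hep
  obtain ⟨P, hP, hPQ⟩ := exists_defect_inf hM hlam hlamn hb.1 hep hbe hQ₀
  rw [defect_eq_of_normal hM hb.1 hbD hP] at hPQ
  have hQ₁ : Q₀ = ((D ⊓ K).subgroupOf K).comap mu := by
    rw [← hPQ]
    ext l
    exact ⟨fun h => ⟨h, l.2.2⟩, fun h => h.1⟩
  have hmur : mu.range = Subgroup.normalizer (((D ⊓ K).subgroupOf K : Subgroup K) : Set K) := by
    ext k
    rw [range_inclusion', Subgroup.mem_subgroupOf, mem_normalizer_subgroupOf inf_le_right]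
    exact ⟨fun h => mem_normalizer_inf h.1, fun h => ⟨hL k k.2 h, k.2⟩⟩
  obtain ⟨β, hβQ, hβ⟩ := first_main_up hM hmu hmur ((hDp.to_le inf_le_left).comap_subtype) hep (hQ₁ ▸ hQ₀)
  obtain ⟨T, hT⟩ := exists_isStab hβ.2.1
  have hKT : K ≤ T := hT.le hβ.2.1
  -- the stabilizer of `β*` in `N`
  have hstab : ∀ n : N, (n : G) ∈ T ↔ StabH lam e n := by
    intro n
    have hnL : (n : G) ∈ Subgroup.normalizer (L : Set G) :=
      mem_normalizer_inf (Subgroup.le_normalizer n.2)
    set cL := cjOn L hnL with hcL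
    set cK := cjOn K (mem_normalizer_of_normal K n) with hcK
    have h1 : IndH M mu (trSet cL e) (trSet cK β) :=
      IndH.tgt cK (ι' := mu.comp cL.toMonoidHom) (fun _ => rfl) (IndH.src cL (fun _ => rfl) hβ)
    rw [isStab_iff.1 hT, stabH_iff_trSet K.subtype_injective cK (fun k => cjOn_coe K _ k) hβ.2.1,
      stabH_iff_trSet hlam cL (fun k => Subtype.ext (cjOn_coe L _ k)) hep]
    constructor
    · intro h2
      rw [h2] at h1
      exact uniqH hM hmu hmur hβQ h1 hβ
    · intro h2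
      rw [h2] at h1
      exact h1.unique hβ
  set H : Subgroup G := N ⊓ T with hHdef
  have hLH : L ≤ H := inf_le_inf_left _ hKT
  let κ : L →* H := Subgroup.inclusion hLH
  let τ : H →* N := Subgroup.inclusion inf_le_left
  let σ : H →* T := Subgroup.inclusion inf_le_right
  have hτ : Function.Injective τ := Subgroup.inclusion_injective _
  have hσ : Function.Injective σ := Subgroup.inclusion_injective _
  have hτr : ∀ n : N, n ∈ τ.range ↔ StabH lam e n := by
    intro n
    rw [← hstab, range_inclusion', Subgroup.mem_subgroupOf]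
    exact ⟨fun h => h.2, fun h => ⟨n.2, h⟩⟩
  obtain ⟨c, hc, hce, hcb, hcnt, hdef⟩ :=
    FRH_down hM (κ := κ) (τ := τ) (ι := lam) (fun _ => rfl) hlam hτ hlamn hep hτr hb.1 hbe
  obtain ⟨D', hD'⟩ := H592.Defect.exists_defectGroup p hM hc
  have hD'' := defect_eq_of_normal hM hb.1 hbD (hdef D' hD')
  have hDT : D ≤ T := by
    intro x hx
    have h1 : (⟨x, hDN hx⟩ : N) ∈ D'.map τ := by
      rw [hD'']
      exact hx
    obtain ⟨y, -, hy⟩ := h1
    have h2 : (y : G) = x := congrArg Subtype.val hy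
    exact h2 ▸ y.2.2
  have hD₁ : D' = (D.subgroupOf T).comap σ := by
    ext y
    rw [← Subgroup.mem_map_iff_mem hτ, hD'']
    rfl
  have hσr : σ.range = Subgroup.normalizer ((D.subgroupOf T : Subgroup T) : Set T) := by
    ext t
    rw [range_inclusion', Subgroup.mem_subgroupOf, mem_normalizer_subgroupOf hDT]
    exact ⟨fun h => h.1, fun h => ⟨h, t.2⟩⟩
  obtain ⟨B', hB'D, hB'⟩ := first_main_up hM hσ hσr hDp.comap_subtype hc (hD₁ ▸ hD')
  have h1 : IndH M H.subtype c B := (IndH.trans_iff (ι₂ := N.subtype) (fun _ => rfl) hcb).2 hb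
  have h2 : IndH M T.subtype B' B := (IndH.trans_iff (ι₂ := T.subtype) (fun _ => rfl) hB').1 h1
  have hκr : ∀ h : H, h ∈ κ.range ↔ (h : G) ∈ K := by
    intro h
    rw [range_inclusion', Subgroup.mem_subgroupOf]
    exact ⟨fun h3 => h3.2, fun h3 => ⟨h.2.1, h3⟩⟩
  have hKr : ∀ t : T, t ∈ (Subgroup.inclusion hKT).range ↔ (t : G) ∈ K := by
    intro t
    rw [range_inclusion', Subgroup.mem_subgroupOf]
  have h3 : CovH (Subgroup.inclusion hKT) B' β :=
    cov_square hM (lam := κ) (mu := mu) (ι := σ) (κ := Subgroup.inclusion hKT) (fun _ => rfl)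
      (Subgroup.inclusion_injective _) ⟨fun a ha g => (hκr _).2 (hK.conj_mem _ ((hκr a).1 ha) g)⟩
      (Subgroup.inclusion_injective _) ⟨fun a ha g => (hKr _).2 (hK.conj_mem _ ((hKr a).1 ha) g)⟩
      (fun h h4 => (hκr h).2 ((hKr _).1 h4)) hβ hce hB'
  have h4 : CovH K.subtype B β := by
    obtain ⟨ψ, hψ, η, hη, h5⟩ := h3
    obtain ⟨χ, hχ, h6⟩ := h2.exists_ov hM T.subtype_injective hψ
    exact ⟨χ, hχ, η, hη, Ov.trans (fun _ => rfl) (isIrr_isCharacter χ.2) ψ.2 η.2 h6 h5⟩
  refine ⟨β, T, B', hβ.2.1, hβQ, h4, hT, hDT, hB'.2.1, hB'D, fun hE => ?_⟩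
  refine eqv_of_hom hM N.subtype_injective N.range_subtype hD hb fun d => ?_
  rw [FR_cnt hM hβ.2.1 hT hKT hB'.2.1 h3 h2, hE.hom hM hσ hσr hB', hcnt]

end Cfsg.Agent.TID.Red
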