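import Cfsg.Agent.TID.Red.R2
import Cfsg.Agent.TID.Defs
import Cfsg.Agent.Lib.Cores
import Cfsg.Agent.Lib.GenFitting
import Cfsg.Agent.SignalizersComponents.Components

/-!
# S4622: the box `Red` (helper33)
-/

set_option autoImplicit false
set_option linter.style.haveILetI false
set_option linter.unusedSectionVars false

open Cfsg
open scoped Pointwise

namespace Cfsg.Agent.TID.Red

open Cfsg.Agent Cfsg.Agent.Blocks Cfsg.Agent.H591.Reynolds
open Cfsg.Agent.SignalizersComponents.Components

universe u v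

variable {p : ℕ} [Fact p.Prime] {M : Ideal AlgInt}

theorem eqv_iff_concl {G : Type u} [Group G] [Finite G] (hM : IsPModular p M) {B : Set (IrrCharacter G)}
    (hB : IsPBlock M B) {D : Subgroup G} (hD : IsDefectGroup p M B D) : Eqv p M B D ↔ Blk.Concl p M B D :=
  ⟨fun h d => final_of_eqv hM hB hD h d, fun h _ hb d => (Blk.concl_iff hM hD hb).1 h d⟩

theorem rk2_of_equiv {X : Type u} {Y : Type v} [Group X] [Group Y] {D : Subgroup X} {D' : Subgroup Y}
    (e : D ≃* D') (h : Rk2 p D) : Rk2 p D' := by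
  obtain ⟨V, hV, ⟨h1, h2⟩, h3⟩ := h
  let f : V →* Y := D'.subtype.comp (e.toMonoidHom.comp (Subgroup.inclusion hV))
  have hf : Function.Injective f :=
    D'.subtype_injective.comp (e.injective.comp (Subgroup.inclusion_injective hV))
  refine ⟨f.range, ?_, ⟨⟨⟨?_⟩⟩, ?_⟩, ?_⟩
  · rintro _ ⟨v, rfl⟩
    exact (e (Subgroup.inclusion hV v)).2
  · rintro ⟨_, a, rfl⟩ ⟨_, b, rfl⟩
    apply Subtype.ext
    change f a * f b = f b * f a
    rw [← map_mul, ← map_mul, h1.is_comm.comm a b]
  · rintro _ ⟨v, rfl⟩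
    have h4 : v ^ p = 1 := Subtype.ext (h2 v v.2)
    rw [← map_pow, h4, map_one]
  · rw [← h3]
    exact (Nat.card_congr (MonoidHom.ofInjective hf).toEquiv).symm

theorem rk2_subgroupOf {X : Type u} [Group X] {D T : Subgroup X} (h : D ≤ T) (h1 : Rk2 p D) :
    Rk2 p (D.subgroupOf T) := rk2_of_equiv (Subgroup.subgroupOfEquivOfLe h).symm h1

theorem soc_map {X Y : Type u} [Group X] [Group Y] (e : X ≃* Y) {S : Subgroup X} (h : Soc S) :
    Soc (S.map e.toMonoidHom) := by
  have e1 : S ≃* S.map e.toMonoidHom := S.equivMapOfInjective _ e.injective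
  have hs := h.simple
  refine ⟨h.normal.map _ e.surjective, e1.symm.isSimpleGroup, fun h1 => h.nonab ⟨⟨fun a b => ?_⟩⟩, ?_⟩
  · apply e1.injective
    rw [map_mul, map_mul, h1.is_comm.comm]
  · rw [eq_bot_iff]
    intro y hy
    obtain ⟨x, rfl⟩ := e.surjective y
    have h2 : x ∈ Subgroup.centralizer (S : Set X) := by
      rw [Subgroup.mem_centralizer_iff]
      intro s hs'
      apply e.injective
      rw [map_mul, map_mul]
      exact Subgroup.mem_centralizer_iff.1 hy _ (Subgroup.mem_map_of_mem _ hs')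
    rw [h.cent, Subgroup.mem_bot] at h2
    rw [h2, map_one]
    exact one_mem _

/-- the situation kept along the reduction -/
structure Sit {G : Type u} [Group G] (L D : Subgroup G) : Prop where
  comp : IsComponent L
  ne : D ⊓ L ≠ ⊥
  nle : ¬ L ≤ Subgroup.normalizer (D : Set G)

section grp

variable {G : Type u} [Group G] [Finite G] {L D : Subgroup G}

omit [Finite G] in
theorem TI.centralizer_le (h : TI D) {x : G} (hx : x ∈ D) (hne : x ≠ 1) {g : G} (hg : g * x = x * g) :
    g ∈ Subgroup.normalizer (D : Set G) :=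
  ti_iff.1 h g x hx (by rw [hg, mul_inv_cancel_right]; exact hx) hne

omit [Finite G] in
theorem TI.normalizer_le (h : TI D) {Q : Subgroup G} (hQ : Q ≤ D) (hne : Q ≠ ⊥) :
    Subgroup.normalizer (Q : Set G) ≤ Subgroup.normalizer (D : Set G) := by
  intro g hg
  obtain ⟨⟨x, hx⟩, hx1⟩ := Subgroup.ne_bot_iff_exists_ne_one.1 hne
  exact ti_iff.1 h g x (hQ hx) (hQ ((Subgroup.mem_normalizer_iff.1 hg x).1 hx))
    fun h1 => hx1 (Subtype.ext h1)

theorem Sit.subgroupOf (h : Sit L D) {T : Subgroup G} (hL : L ≤ T) (hD : D ≤ T) :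
    Sit (L.subgroupOf T) (D.subgroupOf T) := by
  refine ⟨isComponent_subgroupOf hL h.comp, fun h1 => h.ne ?_, fun h1 => h.nle fun x hx => ?_⟩
  · rw [eq_bot_iff]
    intro x hx
    have h2 : (⟨x, hD hx.1⟩ : T) ∈ D.subgroupOf T ⊓ L.subgroupOf T := hx
    rw [h1, Subgroup.mem_bot] at h2
    exact Subgroup.mem_bot.2 (congrArg Subtype.val h2)
  · exact (mem_normalizer_subgroupOf hD ⟨x, hL hx⟩).1 (h1 hx)

theorem Sit.inf_centralizer (h : Sit L D) (hTI : TI D) : D ⊓ Subgroup.centralizer (L : Set G) = ⊥ := by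
  rw [eq_bot_iff]
  intro x hx
  by_contra hne
  exact h.nle fun l hl => hTI.centralizer_le hx.1 hne (Subgroup.mem_centralizer_iff.1 hx.2 l hl)

theorem Sit.centralizer_le_normalizer (h : Sit L D) (hTI : TI D) :
    Subgroup.centralizer (L : Set G) ≤ Subgroup.normalizer (D : Set G) := by
  obtain ⟨⟨x, hx⟩, hx1⟩ := Subgroup.ne_bot_iff_exists_ne_one.1 h.ne
  intro c hc
  exact hTI.centralizer_le hx.1 (fun h1 => hx1 (Subtype.ext h1))
    (Subgroup.mem_centralizer_iff.1 hc x hx.2).symm

theorem Sit.normalizer_le (h : Sit L D) (hTI : TI D) :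
    Subgroup.normalizer (D : Set G) ≤ Subgroup.normalizer (L : Set G) := by
  intro n hn
  have h1 := isComponent_conj n h.comp
  by_cases h2 : L = L.map (MulAut.conj n).toMonoidHom
  · refine Subgroup.mem_normalizer_fintype fun l hl => ?_
    have h3 : (MulAut.conj n).toMonoidHom l ∈ L.map (MulAut.conj n).toMonoidHom :=
      Subgroup.mem_map_of_mem _ hl
    rw [← h2] at h3
    exact h3
  · exfalso
    obtain ⟨⟨x, hx⟩, hx1⟩ := Subgroup.ne_bot_iff_exists_ne_one.1 h.ne
    have h3 := component_le_centralizer_of_ne h1 h.comp (Ne.symm h2) (Subgroup.mem_map_of_mem _ hx.2)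
    have h4 : n * x * n⁻¹ ∈ D ⊓ Subgroup.centralizer (L : Set G) :=
      ⟨(Subgroup.mem_normalizer_iff.1 hn x).1 hx.1, h3⟩
    rw [h.inf_centralizer hTI, Subgroup.mem_bot] at h4
    apply hx1
    apply Subtype.ext
    calc x = n⁻¹ * (n * x * n⁻¹) * n := by group
      _ = 1 := by rw [h4]; group

theorem sit_of (hO : pCore p G = ⊥) (hD : IsPGroup p D) (hL : IsComponent L) (hne : D ⊓ L ≠ ⊥) : Sit L D := by
  refine ⟨hL, hne, fun h => hne ?_⟩
  have hs : Group.IsSolvable D := by
    have := hD.isNilpotent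
    infer_instance
  have h1 := component_commutator_solvable hL h hs
  have h2 : D ⊓ L ≤ Subgroup.centralizer (layer G : Set G) := by
    rw [Subgroup.le_centralizer_iff, layer_le_iff]
    intro K hK
    by_cases h3 : K = L
    · rw [h3]
      exact (Subgroup.commutator_eq_bot_iff_le_centralizer.1 h1).trans
        (Subgroup.centralizer_le inf_le_left)
    · exact (component_le_centralizer_of_ne hK hL h3).trans (Subgroup.centralizer_le inf_le_right)
  have h3 := Lib.GenFitting.le_pCore_of_normal_in_normal (layer_normal G)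
    (inf_le_right.trans (component_le_layer hL))
    ((Subgroup.le_centralizer_iff.1 h2).trans (Subgroup.centralizer_le_normalizer _)) (hD.to_le inf_le_left)
  rwa [hO, le_bot_iff] at h3

/-- `G / C_G(L)` is almost simple -/
theorem soc_quot [L.Normal] (hL : IsComponent L) :
    Soc (L.map (QuotientGroup.mk' (Subgroup.centralizer (L : Set G)))) := by
  set C := Subgroup.centralizer (L : Set G) with hC
  have hperf : Group.IsPerfect L := hL.2.1
  let f : L →* G ⧸ C := (QuotientGroup.mk' C).comp L.subtype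
  have hr : f.range = L.map (QuotientGroup.mk' C) := by
    rw [MonoidHom.range_comp, Subgroup.range_subtype]
  have hk : f.ker = Subgroup.center L := by
    ext l
    rw [MonoidHom.mem_ker, Subgroup.mem_center_iff]
    change ((l : G) : G ⧸ C) = 1 ↔ _
    rw [QuotientGroup.eq_one_iff, Subgroup.mem_centralizer_iff]
    exact ⟨fun h g => Subtype.ext (h g g.2), fun h g hg => congrArg Subtype.val (h ⟨g, hg⟩)⟩
  have key : ∀ X : Subgroup G, ⁅X, L⁆ ≤ C → X ≤ C := by
    intro X hX
    refine Subgroup.commutator_eq_bot_iff_le_centralizer.1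
      (commutator_eq_bot_of_commutator_commutator_eq_bot hperf ?_)
    exact Subgroup.commutator_eq_bot_iff_le_centralizer.2 hX
  refine ⟨Subgroup.Normal.map inferInstance _ (QuotientGroup.mk'_surjective C), ?_, fun h => ?_, ?_⟩
  · have e : L ⧸ Subgroup.center L ≃* L.map (QuotientGroup.mk' C) :=
      ((QuotientGroup.quotientMulEquivOfEq hk.symm).trans (QuotientGroup.quotientKerEquivRange f)).trans
        (MulEquiv.subgroupCongr hr)
    have := hL.2.2
    exact e.symm.isSimpleGroup
  · have h1 : L ≤ C := by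
      refine key L ((Lib.Cores.commutator_le_iff_le_comap_centralizer L L).2 fun l hl => ?_)
      rw [Subgroup.mem_comap, Subgroup.mem_centralizer_iff]
      intro y hy
      exact congrArg Subtype.val (h.is_comm.comm ⟨y, hy⟩ ⟨_, Subgroup.mem_map_of_mem _ hl⟩)
    exact quasisimple_not_isMulCommutative hL.2 ⟨⟨fun a b =>
      Subtype.ext (Subgroup.mem_centralizer_iff.1 (h1 b.2) a a.2)⟩⟩
  · rw [eq_bot_iff]
    intro q hq
    obtain ⟨g, rfl⟩ := QuotientGroup.mk_surjective q
    have h1 := key _ ((Lib.Cores.commutator_le_iff_le_comap_centralizer _ L).2 le_rfl) hq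
    exact Subgroup.mem_bot.2 ((QuotientGroup.eq_one_iff g).2 h1)

end grp

/-- the reduced situation for a central `p'`-extension of an almost simple group -/
theorem exists_cen {H X : Type u} [Group H] [Group X] [Finite H] {ρ : H →* X} (hρ : Function.Surjective ρ)
    (hc : ρ.ker ≤ Subgroup.center H) (hp : ¬ p ∣ Nat.card ρ.ker) {S : Subgroup X} (hS : Soc S)
    (hpS : p ∣ Nat.card S) : ∃ S' : Subgroup (H ⧸ pPrimeCore p H), Cen p S' := by
  have : Finite X := Finite.of_surjective ρ hρ
  have hpp : p.Prime := Fact.out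
  have h1 : pPrimeCore p H = ρ.ker := by
    refine le_antisymm ?_ (Lib.Cores.le_pPrimeCore inferInstance
      ((Nat.Prime.coprime_iff_not_dvd hpp).2 hp).symm)
    set N := (pPrimeCore p H).map ρ with hN
    have hNn : N.Normal := (Lib.Cores.pPrimeCore_normal p).map _ hρ
    have hSn := hS.normal
    have hs := hS.simple
    have h2 : ¬ p ∣ Nat.card N := fun h => (Nat.Prime.coprime_iff_not_dvd hpp).1
      (Lib.Cores.pPrimeCore_coprime (G := H) p).symm (h.trans (Subgroup.card_map_dvd _ _))
    have h3 : N.subgroupOf S = ⊥ := by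
      refine (hs.eq_bot_or_eq_top_of_normal _ (hNn.subgroupOf S)).resolve_right fun h => h2 ?_
      exact hpS.trans (Subgroup.card_dvd_of_le (Subgroup.subgroupOf_eq_top.1 h))
    have h4 : N ≤ Subgroup.centralizer (S : Set X) := by
      intro n hn
      rw [Subgroup.mem_centralizer_iff]
      intro s hs'
      exact (Subgroup.commute_of_normal_of_disjoint N S hNn hSn (Subgroup.subgroupOf_eq_bot.1 h3) n s hn hs').eq.symm
    rw [hS.cent, le_bot_iff, hN, Subgroup.map_eq_bot_iff] at h4
    exact h4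
  let e : X ≃* H ⧸ pPrimeCore p H :=
    ((QuotientGroup.quotientMulEquivOfEq h1).trans (QuotientGroup.quotientKerEquivOfSurjective ρ hρ)).symm
  exact ⟨S.map e.toMonoidHom, h1 ▸ hc, soc_map e hS⟩

theorem red_aux (hC : CenAll.{u}) (hM : IsPModular p M) (n : ℕ) :
    ∀ (G : Type u) [Group G] [Finite G] (B : Set (IrrCharacter G)) (D L : Subgroup G), Nat.card G ≤ n →
      IsPBlock M B → IsDefectGroup p M B D → TI D → Rk2 p D → Sit L D → Eqv p M B D := by
  have := Local.isPrime_of_isPModular hM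
  induction n with
  | zero =>
    intro G _ _ B D L hn
    exact absurd hn (not_le.2 Nat.card_pos)
  | succ n ih =>
    intro G _ _ B D L hn hB hD hTI hrk hS
    have hlt : ∀ T : Subgroup G, T ≠ ⊤ → Nat.card T ≤ n := by
      intro T hT
      have h1 : Nat.card T < Nat.card G := by
        refine lt_of_le_of_ne (Subgroup.card_le_card_group T) fun h => hT ?_
        exact Subgroup.eq_top_of_card_eq T h
      omega
    -- the layer
    have hEn := layer_normal G
    have hLE := component_le_layer hS.comp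
    have hne : D ⊓ layer G ≠ ⊥ := fun h => hS.ne (le_bot_iff.1 (h ▸ inf_le_inf_left _ hLE))
    obtain ⟨β, T, B', hβ, hβQ, -, hT, hDT, hB', hD', hred⟩ :=
      R13 hM hB hD (layer G) fun k _ hk => hTI.normalizer_le inf_le_left hne hk
    by_cases hT1 : T ≠ ⊤
    · exact hred (ih T B' _ (L.subgroupOf T) (hlt T hT1) hB' hD' (hTI.subgroupOf hDT) (rk2_subgroupOf hDT hrk)
        (hS.subgroupOf (hLE.trans (hT.le hβ)) hDT))
    rw [not_not] at hT1
    have hLn : L.Normal := by
      rw [← Subgroup.normalizer_eq_top_iff, eq_top_iff]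
      intro g _
      obtain ⟨k, hk, hkg⟩ := frattini hM hβ inf_le_right hβQ ((isStab_iff.1 hT g).1 (hT1 ▸ Subgroup.mem_top g))
      have h1 := hS.normalizer_le hTI (hTI.normalizer_le inf_le_left hne hkg)
      have h2 := (Subgroup.normalizer (L : Set G)).mul_mem
        ((Subgroup.normalizer (L : Set G)).inv_mem (layer_le_normalizer_component hS.comp hk)) h1
      rwa [inv_mul_cancel_left] at h2
    clear hred hD' hB' hDT hT hβQ hβ B' hT1 T β
    -- the centralizer of `L`
    set C := Subgroup.centralizer (L : Set G) with hCdef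
    have hCN := hS.centralizer_le_normalizer hTI
    have hDC := hS.inf_centralizer hTI
    obtain ⟨β, T, B', hβ, hβQ, hcov, hT, hDT, hB', hD', hred⟩ := R13 hM hB hD C fun k hk _ => hCN hk
    by_cases hT1 : T ≠ ⊤
    · refine hred (ih T B' _ (L.subgroupOf T) (hlt T hT1) hB' hD' (hTI.subgroupOf hDT) (rk2_subgroupOf hDT hrk)
        (hS.subgroupOf (fun l hl => (isStab_iff.1 hT l).2 fun θ hθ θ' h => ?_) hDT))
      have h1 : θ' = θ := by
        refine Subtype.ext (funext fun k => h k k ?_)
        have h2 := Subgroup.mem_centralizer_iff.1 k.2 l hl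
        change (k : G) = l * k * l⁻¹
        rw [h2, mul_inv_cancel_right]
      rwa [h1]
    rw [not_not] at hT1
    subst hT1
    rw [hDC, Subgroup.bot_subgroupOf] at hβQ
    have hCD : C ≤ Subgroup.centralizer (D : Set G) := by
      intro c hc
      rw [Subgroup.mem_centralizer_iff]
      intro d hd
      have h1 : c * d * c⁻¹ * d⁻¹ ∈ D ⊓ C := by
        refine ⟨D.mul_mem ((Subgroup.mem_normalizer_iff.1 (hCN hc) d).1 hd) (D.inv_mem hd), ?_⟩
        have h2 : c * d * c⁻¹ * d⁻¹ = c * (d * c⁻¹ * d⁻¹) := by group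
        rw [h2]
        exact C.mul_mem hc (Subgroup.Normal.conj_mem inferInstance _ (C.inv_mem hc) d)
      rw [hDC, Subgroup.mem_bot, mul_inv_eq_one, mul_inv_eq_iff_eq_mul] at h1
      exact h1.symm
    obtain ⟨H, _, _, ρ, B₁, D₁, hρ, hc, hp, ⟨e⟩, -, hB₁, hD₁, hTI₁, hred₁⟩ :=
      R2 hM hB hD hTI C hCD hDC hβ hβQ hcov hT
    have hpS : p ∣ Nat.card (L.map (QuotientGroup.mk' C)) := by
      have hDp := H592.Defect.isPGroup_of_isDefectGroup hD
      have h1 : IsPGroup p ((D ⊓ L).map (QuotientGroup.mk' C)) := (hDp.to_le inf_le_left).map _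
      have h2 : (D ⊓ L).map (QuotientGroup.mk' C) ≠ ⊥ := by
        rw [Ne, Subgroup.map_eq_bot_iff, QuotientGroup.ker_mk']
        intro h3
        exact hS.ne (le_bot_iff.1 (hDC ▸ le_inf inf_le_left h3))
      have h3 := h1.card_eq_or_dvd.resolve_left fun h4 => h2 (Subgroup.card_eq_one.1 h4)
      exact h3.trans (Subgroup.card_dvd_of_le (Subgroup.map_mono inf_le_right))
    obtain ⟨S, hS'⟩ := exists_cen hρ hc hp (soc_quot hS.comp) hpS
    exact hred₁ ((eqv_iff_concl hM hB₁ hD₁).2
      (hC p H S M B₁ D₁ hS' ⟨hM, hB₁, hD₁, hTI₁⟩ (rk2_of_equiv e hrk)))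

/-- **The box `Red`.** -/
theorem red : TID.Red.{u} := by
  intro hC p _ G _ _ M B D hO h hrk ⟨L, hL, hne⟩
  exact (eqv_iff_concl h.modu h.blk h.dfc).1 (red_aux hC h.modu _ G B D L le_rfl h.blk h.dfc h.ti hrk
    (sit_of hO (H592.Defect.isPGroup_of_isDefectGroup h.dfc) hL hne))

end Cfsg.Agent.TID.Red
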