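import Cfsg.Agent.TID.Red.R13
import Cfsg.Agent.H658.KKL.FongTwo
import Cfsg.Agent.S0914

/-!
# S4622, reductions: the second reduction, at an invariant character of defect zero (helper33)
-/

set_option autoImplicit false
set_option linter.style.haveILetI false
set_option linter.unusedSectionVars false
set_option maxHeartbeats 400000

open Cfsg
open scoped ComplexConjugate Pointwise

namespace Cfsg.Agent.TID.Red

open Cfsg.Agent Cfsg.Agent.Characters.Core Cfsg.Agent.H592.Transport Cfsg.Agent.H592.Transit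
open Cfsg.Agent.Blocks Cfsg.Agent.H591.Reynolds Cfsg.Agent.H592.Har Cfsg.Agent.H658.KKL.FongTwo
open Cfsg.Agent.OddOrderCharacters.PF9.CliffGen (down)

universe u v w

/-- the indicator of a proposition -/
noncomputable def ind01 (P : Prop) : ℂ := @ite _ P (Classical.propDecidable P) 1 0

theorem ind01_pos {P : Prop} (h : P) : ind01 P = 1 := if_pos h

theorem ind01_neg {P : Prop} (h : ¬ P) : ind01 P = 0 := if_neg h

theorem icc_eq_sum' {H : Type u} {G : Type v} [Group H] [Group G] [Fintype H] (ι : H →* G) (ξ : H → ℂ) (g : G) :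
    icc ι ξ g = ∑ h : H, ind01 (IsConj g (ι h)) * (ξ h / ξ 1) :=
  @icc_eq_sum H G _ _ _ ι ξ g fun _ => Classical.propDecidable _

theorem ov_subtype_iff {G : Type u} [Group G] (K : Subgroup G) [Fintype K] (χ : G → ℂ) (θ : K → ℂ) :
    Ov K.subtype χ θ ↔ classInner (fun n : K => χ n) θ ≠ 0 := ov_iff _ _ _

/-- a subgroup meeting the kernel trivially is isomorphic to its image -/
noncomputable def equivMapOf {X Y : Type*} [Group X] [Group Y] (f : X →* Y) (R : Subgroup X)
    (h : ∀ r ∈ R, f r = 1 → r = 1) : R ≃* R.map f :=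
  MulEquiv.ofBijective (f.subgroupMap R) ⟨by
    rw [injective_iff_map_eq_one]
    intro a ha
    exact Subtype.ext (h a a.2 (congrArg Subtype.val ha)), f.subgroupMap_surjective R⟩

section cov

variable {p : ℕ} {G : Type u} [Group G] [Finite G] {K : Subgroup G} [hK : K.Normal] {θ : K → ℂ}
  {E : Type u} [Group E] [Finite E] (C : Cover p K θ E)

theorem range_le_comap {N : Subgroup G} (hKN : K ≤ N) : C.s.range ≤ N.comap C.π := by
  rintro _ ⟨k, rfl⟩
  rw [Subgroup.mem_comap, C.sec]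
  exact hKN k.2

/-- the section of the restricted cover -/
def resSec {N : Subgroup G} (hKN : K ≤ N) : K.subgroupOf N →* N.comap C.π :=
  (C.s.comp (Subgroup.subgroupOfEquivOfLe hKN).toMonoidHom).codRestrict _
    fun _ => range_le_comap C hKN ⟨_, rfl⟩

theorem mem_range_resSec {N : Subgroup G} (hKN : K ≤ N) (x : N.comap C.π) :
    x ∈ (resSec C hKN).range ↔ (x : E) ∈ C.s.range := by
  constructor
  · rintro ⟨k, rfl⟩
    exact ⟨_, rfl⟩
  · rintro ⟨k, hk⟩
    exact ⟨⟨⟨k, hKN k.2⟩, k.2⟩, Subtype.ext hk⟩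

theorem card_ker_res (N : Subgroup G) : Nat.card (C.π.subgroupComap N).ker = Nat.card C.π.ker := by
  refine Nat.card_congr
    { toFun := fun x => ⟨x.1.1, congrArg Subtype.val x.2⟩
      invFun := fun x => ⟨⟨x.1, by
        rw [Subgroup.mem_comap, MonoidHom.mem_ker.1 x.2]
        exact one_mem _⟩, Subtype.ext x.2⟩
      left_inv := fun _ => rfl
      right_inv := fun _ => rfl }

/-- the cover restricted to a subgroup containing `K` -/
def resCover (hθ : IsIrrCharacter K θ) {N : Subgroup G} (hKN : K ≤ N) :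
    Cover p (K.subgroupOf N) (down K N θ) (N.comap C.π) where
  π := C.π.subgroupComap N
  s := resSec C hKN
  ψ := fun x => C.ψ x
  surj := C.π.subgroupComap_surjective_of_surjective N C.surj
  ker_le := fun x hx => by
    rw [Subgroup.mem_center_iff]
    intro y
    exact Subtype.ext (Subgroup.mem_center_iff.1 (C.ker_le (congrArg Subtype.val hx)) y)
  ker_p := by
    rw [card_ker_res]
    exact C.ker_p
  sec := fun n => Subtype.ext (C.sec _)
  normal := ⟨fun a ha g => (mem_range_resSec C hKN _).2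
    (C.normal.conj_mem _ ((mem_range_resSec C hKN a).1 ha) g)⟩
  irr := isIrr_res_of_le C hθ _ (range_le_comap C hKN)
  ext := fun n => C.ext _
  ne := fun z hz => C.ne _ (congrArg Subtype.val hz)

theorem resCover_ψ (hθ : IsIrrCharacter K θ) {N : Subgroup G} (hKN : K ≤ N) (x : N.comap C.π) :
    (resCover C hθ hKN).ψ x = C.ψ x := rfl

theorem resCover_π (hθ : IsIrrCharacter K θ) {N : Subgroup G} (hKN : K ≤ N) :
    (resCover C hθ hKN).π = C.π.subgroupComap N := rfl

theorem resCover_one (hθ : IsIrrCharacter K θ) {N : Subgroup G} (hKN : K ≤ N) :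
    (resCover C hθ hKN).ψ 1 = C.ψ 1 := rfl

theorem resCover_card (hθ : IsIrrCharacter K θ) {N : Subgroup G} (hKN : K ≤ N) :
    Nat.card (resCover C hθ hKN).s.range = Nat.card C.s.range := by
  rw [card_range, card_range, Nat.card_congr (Subgroup.subgroupOfEquivOfLe hKN).toEquiv]

theorem resCover_degree (hθ : IsIrrCharacter K θ) {N : Subgroup G} (hKN : K ≤ N) :
    charDegree (resCover C hθ hKN).ψ = charDegree C.ψ := by
  rw [Basic.charDegree_def, Basic.charDegree_def, resCover_one]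

/-- the embedding of the restricted quotient -/
def resEmb (hθ : IsIrrCharacter K θ) {N : Subgroup G} (hKN : K ≤ N) :
    (N.comap C.π) ⧸ (resCover C hθ hKN).s.range →* E ⧸ C.s.range :=
  QuotientGroup.map _ _ (N.comap C.π).subtype fun x hx => (mem_range_resSec C hKN x).1 hx

theorem resEmb_mk (hθ : IsIrrCharacter K θ) {N : Subgroup G} (hKN : K ≤ N) (x : N.comap C.π) :
    resEmb C hθ hKN (x : (N.comap C.π) ⧸ (resCover C hθ hKN).s.range) = ((x : E) : E ⧸ C.s.range) := rfl

theorem resEmb_injective (hθ : IsIrrCharacter K θ) {N : Subgroup G} (hKN : K ≤ N) :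
    Function.Injective (resEmb C hθ hKN) := by
  rw [injective_iff_map_eq_one]
  intro q hq
  obtain ⟨x, rfl⟩ := QuotientGroup.mk_surjective q
  rw [resEmb_mk, QuotientGroup.eq_one_iff] at hq
  exact (QuotientGroup.eq_one_iff x).2 ((mem_range_resSec C hKN x).2 hq)

theorem mem_range_resEmb (hθ : IsIrrCharacter K θ) {N : Subgroup G} (hKN : K ≤ N) (x : E) :
    (x : E ⧸ C.s.range) ∈ (resEmb C hθ hKN).range ↔ C.π x ∈ N := by
  constructor
  · rintro ⟨q, hq⟩
    obtain ⟨y, rfl⟩ := QuotientGroup.mk_surjective q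
    rw [resEmb_mk] at hq
    have h1 : (y : E)⁻¹ * x ∈ N.comap C.π := range_le_comap C hKN (QuotientGroup.eq.1 hq)
    have h2 := (N.comap C.π).mul_mem y.2 h1
    rwa [mul_inv_cancel_left] at h2
  · intro h
    exact ⟨((⟨x, h⟩ : N.comap C.π) : _ ⧸ _), rfl⟩

/-- the map onto `G / K` -/
def rho : E ⧸ C.s.range →* G ⧸ K :=
  QuotientGroup.map _ _ C.π (range_le_comap C le_rfl)

theorem rho_surjective : Function.Surjective (rho C) := by
  intro q
  obtain ⟨g, rfl⟩ := QuotientGroup.mk_surjective q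
  obtain ⟨x, rfl⟩ := C.surj g
  exact ⟨(x : E ⧸ C.s.range), rfl⟩

theorem ker_rho : (rho C).ker = C.Z := by
  ext q
  obtain ⟨x, rfl⟩ := QuotientGroup.mk_surjective q
  have h1 : (x : E ⧸ C.s.range) ∈ C.Z ↔ C.π x ∈ K := by
    change x ∈ C.Z.comap (QuotientGroup.mk' C.s.range) ↔ _
    rw [Z_comap, Subgroup.mem_comap]
  rw [h1, MonoidHom.mem_ker]
  exact QuotientGroup.eq_one_iff (C.π x)

theorem sum_cover [Fintype E] [Fintype (E ⧸ C.s.range)] (hθ : IsIrrCharacter K θ) {χ : G → ℂ}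
    {η : E ⧸ C.s.range → ℂ} (h : ∀ x : E, χ (C.π x) = C.ψ x * η x) (F : E ⧸ C.s.range → ℂ) :
    (C.ψ 1 / (Nat.card C.s.range : ℂ)) * ∑ w : E, F w * (conj (C.ψ w) * (χ (C.π w) / χ 1)) =
      ∑ q : E ⧸ C.s.range, F q * (η q / η 1) := by
  have hc : (Nat.card C.s.range : ℂ) ≠ 0 := by exact_mod_cast (Nat.card_pos (α := C.s.range)).ne'
  have hψ := isIrr_apply_one_ne_zero C.irr
  have h1 := h 1
  rw [map_one, QuotientGroup.mk_one] at h1
  have step2 : ∑ w : E, F w * (conj (C.ψ w) * (χ (C.π w) / χ 1)) =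
      (C.ψ 1)⁻¹ * ∑ w : E, (F w * (η (w : E ⧸ C.s.range) / η 1)) * (C.ψ w * conj (C.ψ w)) := by
    rw [Finset.mul_sum]
    refine Finset.sum_congr rfl fun w _ => ?_
    rw [h w, h1, mul_div_mul_comm]
    simp only [div_eq_mul_inv]
    ring
  rw [step2, sum_normSq C hθ (fun q => F q * (η q / η 1)), sum_mk C (fun q => F q * (η q / η 1))]
  field_simp

open Classical in
theorem sum_cf_sub [Fintype E] {N : Subgroup G} [Fintype N] [Fintype (N.comap C.π)] (k : E ⧸ C.s.range)
    (ξ : N → ℂ) : ∑ n : N, cf C k n * (ξ n / ξ 1) = (C.ψ 1 / (Nat.card C.s.range : ℂ)) *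
      ∑ w : N.comap C.π, ind01 (IsConj k ((w : E) : E ⧸ C.s.range)) *
        (conj (C.ψ w) * (ξ (C.π.subgroupComap N w) / ξ 1)) := by
  unfold cf
  simp_rw [mul_assoc]
  rw [← Finset.mul_sum]
  congr 1
  have h1 : ∀ n : N, (∑ w : E, if C.π w = n ∧ IsConj k (w : E ⧸ C.s.range) then conj (C.ψ w) else 0) =
      ∑ w : N.comap C.π, if C.π.subgroupComap N w = n ∧ IsConj k ((w : E) : E ⧸ C.s.range) then
        conj (C.ψ w) else 0 := by
    intro n
    symm
    refine Fintype.sum_of_injective Subtype.val Subtype.val_injective _ _ (fun x hx => ?_) fun w => ?_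
    · refine if_neg fun h => hx ⟨⟨x, ?_⟩, rfl⟩
      rw [Subgroup.mem_comap, h.1]
      exact n.2
    · refine if_congr (and_congr_left' ?_) rfl rfl
      exact Subtype.ext_iff
  simp_rw [h1, Finset.sum_mul]
  rw [Finset.sum_comm]
  refine Finset.sum_congr rfl fun w _ => ?_
  rw [Finset.sum_eq_single (C.π.subgroupComap N w)]
  · by_cases hk : IsConj k ((w : E) : E ⧸ C.s.range)
    · rw [if_pos ⟨rfl, hk⟩, ind01_pos hk, one_mul]
    · rw [if_neg (fun h' => hk h'.2), ind01_neg hk, zero_mul, zero_mul]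
  · intro g _ hg
    rw [if_neg (fun h' => hg h'.1.symm), zero_mul]
  · intro h'
    exact absurd (Finset.mem_univ _) h'

/-- **Block induction is compatible with the second reduction.** -/
theorem indH_star {M : Ideal AlgInt} [M.IsPrime] (hθ : IsIrrCharacter K θ)
    (h0 : MemLocalRing M (C.ψ 1 / (Nat.card C.s.range : ℂ))) {N : Subgroup G} (hKN : K ≤ N)
    {b : Set (IrrCharacter N)} {B : Set (IrrCharacter G)} (hb : IsInducedBlock M N b B)
    (hbs : IsPBlock M ((resCover C hθ hKN).star b)) (hBs : IsPBlock M (C.star B)) :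
    IndH M (resEmb C hθ hKN) ((resCover C hθ hKN).star b) (C.star B) := by
  classical
  refine ⟨hbs, hBs, ?_⟩
  rintro η' ⟨ξ, hξ, hξ'⟩ η ⟨χ, hχ, hχ'⟩ k
  have := Fintype.ofFinite E
  have := Fintype.ofFinite G
  have := Fintype.ofFinite N
  have := Fintype.ofFinite (N.comap C.π)
  have := Fintype.ofFinite ((N.comap C.π) ⧸ (resCover C hθ hKN).s.range)
  have h1 := ClassSum.memLocalIdeal_of_induced (M := M) N (isIrr_isClassFunction χ.2) (hb.2.2 ξ hξ χ hχ)
    (isClassFunction_cf C k) (memLocalRing_cf C h0 k)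
  rw [sum_cf C hθ (isIrr_isClassFunction η.2) hχ' k, sum_cf_sub] at h1
  have h2 := sum_cover (resCover C hθ hKN) (H591.Cliff.isIrr_down hKN hθ) hξ'
    (fun q => ind01 (IsConj k (resEmb C hθ hKN q)))
  rw [resCover_card, resCover_one] at h2
  simp only [resCover_ψ, resCover_π, resEmb_mk] at h2
  rw [icc_eq_sum', ← h2]
  exact h1

theorem cnt_star [Fact p.Prime] (hθ : IsIrrCharacter K θ)
    (h0 : (charDegree C.ψ).factorization p = (Nat.card C.s.range).factorization p)
    {B : Set (IrrCharacter G)} (hX : ∀ χ ∈ B, Ov K.subtype (χ : G → ℂ) θ) (d : ℕ) :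
    cnt p B d = cnt p (C.star B) d := by
  letI := Fintype.ofFinite K
  refine cnt_eq_of_equiv
    (fun χ η => ∀ x : E, (χ : G → ℂ) (C.π x) = C.ψ x * (η : E ⧸ C.s.range → ℂ) x) ?_ ?_ ?_ ?_ ?_ d
  · intro χ hχ
    obtain ⟨η, hη⟩ := C.exists_star hθ χ ((ov_subtype_iff K _ _).1 (hX χ hχ))
    exact ⟨η, ⟨χ, hχ, hη⟩, hη⟩
  · rintro η ⟨χ, hχ, h⟩
    exact ⟨χ, hχ, h⟩
  · intro χ _ η _ η' _ h h'
    refine Subtype.ext (C.star_unique hθ fun x => ?_)
    rw [← h x, ← h' x]
  · intro χ _ χ' _ η _ h h'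
    refine Subtype.ext (funext fun g => ?_)
    obtain ⟨x, rfl⟩ := C.surj g
    rw [h, h']
  · intro χ _ η _ h
    have e1 := card_E C
    rw [card_E' C] at e1
    have e2 := congrArg (fun n => n.factorization p) e1
    beta_reduce at e2
    rw [Nat.factorization_mul Nat.card_pos.ne' Nat.card_pos.ne',
      Nat.factorization_mul Nat.card_pos.ne' Nat.card_pos.ne', Finsupp.add_apply, Finsupp.add_apply,
      Nat.factorization_eq_zero_of_not_dvd C.ker_p] at e2
    rw [charDegree_mul C h, Nat.factorization_mul (Basic.charDegree_pos C.irr).ne' (Basic.charDegree_pos η.2).ne',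
      Finsupp.add_apply]
    omega

end cov

variable {p : ℕ} [Fact p.Prime] {M : Ideal AlgInt} {G : Type u} [Group G] [Finite G]

/-- a block with trivial defect group -/
theorem exists_of_defect_bot (hM : IsPModular p M) {β : Set (IrrCharacter G)} (hβ : IsPBlock M β)
    (h : IsDefectGroup p M β ⊥) : ∃ θ : IrrCharacter G, β = {θ} ∧
      (charDegree (θ : G → ℂ)).factorization p = (Nat.card G).factorization p := by
  have := Local.isPrime_of_isPModular hM
  have hp : p.Prime := Fact.out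
  letI := Fintype.ofFinite G
  obtain ⟨θ, hθ⟩ := Basic.isPBlock_nonempty hβ
  have h1 := H592.Defect.le_degree_add p hM hβ h hθ
  rw [Subgroup.card_bot, Nat.factorization_one, Finsupp.zero_apply, add_zero] at h1
  have hdvd : charDegree (θ : G → ℂ) ∣ Nat.card G := by
    exact (S0914.degree_spec θ).2.2
  obtain ⟨m, hm⟩ := hdvd
  have hθ0 := (Basic.charDegree_pos θ.2).ne'
  have hm0 : m ≠ 0 := by
    rintro rfl
    exact Nat.card_pos.ne' hm
  have h2 : (Nat.card G).factorization p =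
      (charDegree (θ : G → ℂ)).factorization p + m.factorization p := by
    conv_lhs => rw [hm]
    rw [Nat.factorization_mul hθ0 hm0, Finsupp.add_apply]
  refine ⟨θ, ?_, by omega⟩
  rw [Basic.isPBlock_eq_blockOf hβ hθ]
  refine (S0914.result p M hM θ).1 ?_
  have h3 : Nat.card G / charDegree (θ : G → ℂ) = m := by
    conv_lhs => rw [hm]
    exact Nat.mul_div_cancel_left m (Nat.pos_of_ne_zero hθ0)
  rw [h3]
  intro h4
  have := (hp.dvd_iff_one_le_factorization hm0).1 h4
  omega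

theorem eq_one_of_central (hM : IsPModular p M) {K : Subgroup G} {β : Set (IrrCharacter K)} (hβ : IsPBlock M β)
    (h : IsDefectGroup p M β ⊥) {k : G} (hk : k ∈ K) (hc : ∀ y ∈ K, y * k = k * y) {n : ℕ}
    (hn : k ^ p ^ n = 1) : k = 1 := by
  have h1 := S0912.result p M hM β hβ ⊥ h
  have h2 : Subgroup.zpowers (⟨k, hk⟩ : K) ≤ pCore p K := by
    refine le_sSup ⟨⟨fun a ha g => ?_⟩, ?_⟩
    · obtain ⟨m, rfl⟩ := Subgroup.mem_zpowers_iff.1 ha
      have h3 : Commute g (⟨k, hk⟩ : K) := Subtype.ext (hc g g.2)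
      rw [(h3.zpow_right m).eq, mul_inv_cancel_right]
      exact ha
    · rintro ⟨a, ha⟩
      obtain ⟨m, rfl⟩ := Subgroup.mem_zpowers_iff.1 ha
      refine ⟨n, Subtype.ext ?_⟩
      change ((⟨k, hk⟩ : K) ^ m) ^ p ^ n = 1
      rw [← zpow_natCast, ← zpow_mul, mul_comm, zpow_mul, zpow_natCast]
      have h3 : (⟨k, hk⟩ : K) ^ p ^ n = 1 := Subtype.ext hn
      rw [h3, one_zpow]
  have h3 := h1 (h2 (Subgroup.mem_zpowers _))
  exact congrArg Subtype.val (Subgroup.mem_bot.1 h3)

omit [Finite G] in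
theorem pow_eq_one_of_commute {a b : G} (h : Commute a b) {m n : ℕ} (ha : a ^ p ^ m = 1) (hb : b ^ p ^ n = 1) :
    (a⁻¹ * b) ^ p ^ (m + n) = 1 := by
  rw [(h.inv_left).mul_pow, inv_pow, pow_add, pow_mul, ha, one_pow, inv_one, one_mul, mul_comm (p ^ m),
    pow_mul, hb, one_pow]

/-- **The second reduction.** -/
theorem R2 (hM : IsPModular p M) {B : Set (IrrCharacter G)} (hB : IsPBlock M B) {D : Subgroup G}
    (hD : IsDefectGroup p M B D) (hTI : TI D) (K : Subgroup G) [hK : K.Normal]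
    (hKC : K ≤ Subgroup.centralizer (D : Set G)) (hDK : D ⊓ K = ⊥)
    {β : Set (IrrCharacter K)} (hβ : IsPBlock M β) (hβ0 : IsDefectGroup p M β ⊥)
    (hcov : CovH K.subtype B β) (hst : IsStab β ⊤) :
    ∃ (H : Type u) (_ : Group H) (_ : Finite H) (ρ : H →* G ⧸ K) (B' : Set (IrrCharacter H)) (D' : Subgroup H),
      Function.Surjective ρ ∧ ρ.ker ≤ Subgroup.center H ∧ ¬ p ∣ Nat.card ρ.ker ∧ Nonempty (D ≃* D') ∧
      D'.map ρ = D.map (QuotientGroup.mk' K) ∧ IsPBlock M B' ∧ IsDefectGroup p M B' D' ∧ TI D' ∧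
      (Eqv p M B' D' → Eqv p M B D) := by
  have := Local.isPrime_of_isPModular hM
  letI := Fintype.ofFinite K
  have hDp := H592.Defect.isPGroup_of_isDefectGroup hD
  obtain ⟨θ, rfl, h0⟩ := exists_of_defect_bot hM hβ hβ0
  have hinv : ∀ (g : G) (n : K), (θ : K → ℂ) ⟨g * n * g⁻¹, hK.conj_mem n n.2 g⟩ = (θ : K → ℂ) n := by
    intro g n
    have h1 : Covering.conjIrr K g θ = θ := (hst.mem_iff g).1 (Subgroup.mem_top g) θ rfl
    conv_rhs => rw [← h1]
    rfl
  obtain ⟨E, i1, i2, ⟨C⟩⟩ := H289.KKL.exists_cover' p K θ hinv h0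
  have hθ : IsIrrCharacter K (θ : K → ℂ) := θ.2
  have hdeg : charDegree C.ψ = charDegree (θ : K → ℂ) := by
    unfold charDegree
    rw [theta_one C]
  have h0' : (charDegree C.ψ).factorization p = (Nat.card C.s.range).factorization p := by
    rw [hdeg, card_range C, h0]
  have h0'' : MemLocalRing M (C.ψ 1 / (Nat.card C.s.range : ℂ)) := by
    rw [Basic.irr_one_eq_charDegree C.irr]
    exact DefectCard.memLocalRing_natDiv hM Nat.card_pos.ne' h0'.ge
  obtain ⟨χ₀, hχ₀, θ', hθ', hne⟩ := hcov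
  rw [Set.mem_singleton_iff] at hθ'
  subst hθ'
  rw [ov_subtype_iff] at hne
  obtain ⟨hBs, hX⟩ := star_block C hM hθ hinv h0'' hB ⟨χ₀, hχ₀, hne⟩
  obtain ⟨R, hR1, hR2, hR3, -⟩ := exists_defect C hM hθ h0'' h0' hX hBs ⟨χ₀, hχ₀⟩ hD hDK
  have hRD : ∀ r ∈ R, C.π r ∈ D := fun r hr => hR1 ▸ Subgroup.mem_map_of_mem _ hr
  have hDpow : ∀ d ∈ D, ∃ n : ℕ, d ^ p ^ n = 1 := by
    intro d hd
    obtain ⟨n, hn⟩ := hDp ⟨d, hd⟩
    exact ⟨n, congrArg Subtype.val hn⟩
  have hRpow : ∀ r ∈ R, ∃ n : ℕ, r ^ p ^ n = 1 := by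
    intro r hr
    obtain ⟨n, hn⟩ := hDpow _ (hRD r hr)
    exact ⟨n, hR2 _ (R.pow_mem hr _) (by rw [map_pow, hn])⟩
  -- the key lemma
  have KL : ∀ g d d' : G, d ∈ D → d' ∈ D → d⁻¹ * (g * d' * g⁻¹) ∈ K → g * d' * g⁻¹ = d := by
    intro g d d' hd hd' hk
    have hc1 : ∀ y ∈ K, Commute y d := fun y hy => (Subgroup.mem_centralizer_iff.1 (hKC hy) d hd).symm
    have hc2 : ∀ y ∈ K, Commute y (g * d' * g⁻¹) := by
      intro y hy
      have h1 := Subgroup.mem_centralizer_iff.1 (hKC (hK.conj_mem _ hy g⁻¹)) d' hd'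
      rw [inv_inv] at h1
      change y * (g * d' * g⁻¹) = g * d' * g⁻¹ * y
      calc y * (g * d' * g⁻¹) = g * (g⁻¹ * y * g * d') * g⁻¹ := by group
        _ = g * (d' * (g⁻¹ * y * g)) * g⁻¹ := by rw [h1]
        _ = _ := by group
    have hc3 : Commute d (g * d' * g⁻¹) := by
      have h1 := hc1 _ hk
      have h2 : g * d' * g⁻¹ = d * (d⁻¹ * (g * d' * g⁻¹)) := by group
      rw [h2]
      exact (Commute.refl d).mul_right h1.symm
    obtain ⟨m, hm⟩ := hDpow d hd
    obtain ⟨n, hn⟩ := hDpow d' hd'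
    have h3 := pow_eq_one_of_commute hc3 hm (n := n) (by rw [conj_pow, hn]; group)
    have h4 := eq_one_of_central hM hβ hβ0 hk
      (fun y hy => ((hc1 y hy).inv_right.mul_right (hc2 y hy)).eq) h3
    rw [inv_mul_eq_one] at h4
    exact h4.symm
  have KL' : ∀ x r r' : E, r ∈ R → r' ∈ R →
      (x : E ⧸ C.s.range) * (r' : E ⧸ C.s.range) * (x : E ⧸ C.s.range)⁻¹ = (r : E ⧸ C.s.range) →
      C.π x * C.π r' * (C.π x)⁻¹ = C.π r := by
    intro x r r' hr hr' h
    rw [← QuotientGroup.mk_inv, ← QuotientGroup.mk_mul, ← QuotientGroup.mk_mul] at h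
    obtain ⟨k, hk⟩ := QuotientGroup.eq.1 h.symm
    refine KL _ _ _ (hRD r hr) (hRD r' hr') ?_
    have h1 := congrArg C.π hk
    rw [C.sec, map_mul, map_inv, map_mul, map_mul, map_inv] at h1
    rw [← h1]
    exact k.2
  have hnorm : ∀ x : E, (x : E ⧸ C.s.range) ∈
      Subgroup.normalizer ((R.map (QuotientGroup.mk' C.s.range) : Subgroup _) : Set (E ⧸ C.s.range)) ↔
      C.π x ∈ Subgroup.normalizer (D : Set G) := by
    intro x
    constructor
    · intro h
      refine Subgroup.mem_normalizer_fintype fun d hd => ?_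
      rw [← hR1] at hd
      obtain ⟨r', hr', rfl⟩ := hd
      obtain ⟨r, hr, h1⟩ := (Subgroup.mem_normalizer_iff.1 h _).1 (Subgroup.mem_map_of_mem _ hr')
      rw [KL' x r r' hr hr' h1.symm]
      exact hRD r hr
    · intro h
      refine Subgroup.mem_normalizer_fintype ?_
      rintro _ ⟨r', hr', rfl⟩
      have h1 := (Subgroup.mem_normalizer_iff.1 h _).1 (hRD r' hr')
      rw [← hR1] at h1
      obtain ⟨r, hr, h2⟩ := h1
      have h3 : r⁻¹ * (x * r' * x⁻¹) ∈ C.π.ker := by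
        rw [MonoidHom.mem_ker, map_mul, map_inv, map_mul, map_mul, map_inv, h2, inv_mul_cancel]
      have h4 : Commute r (x * r' * x⁻¹) := by
        have h5 : x * r' * x⁻¹ = r * (r⁻¹ * (x * r' * x⁻¹)) := by group
        rw [h5]
        exact (Commute.refl r).mul_right (Subgroup.mem_center_iff.1 (C.ker_le h3) r)
      obtain ⟨m, hm⟩ := hRpow r hr
      obtain ⟨n, hn⟩ := hRpow r' hr'
      have h5 := eq_one_of_pow C (pow_eq_one_of_commute h4 hm (n := n) (by rw [conj_pow, hn]; group)) h3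
      rw [inv_mul_eq_one] at h5
      refine ⟨r, hr, ?_⟩
      rw [h5]
      rfl
  have hKN : K ≤ Subgroup.normalizer (D : Set G) := hKC.trans (Subgroup.centralizer_le_normalizer _)
  refine ⟨E ⧸ C.s.range, inferInstance, inferInstance, rho C, C.star B, R.map (QuotientGroup.mk' C.s.range),
    rho_surjective C, (ker_rho C).symm ▸ C.Z_le_center, ?_, ?_, ?_, hBs, hR3, ?_, fun hE => ?_⟩
  · rw [ker_rho]
    exact fun h => C.ker_p (h.trans (Subgroup.card_map_dvd _ _))
  · rw [← hR1]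
    refine ⟨(equivMapOf C.π R hR2).symm.trans (equivMapOf _ R fun r hr h1 => hR2 r hr ?_)⟩
    obtain ⟨n, hn⟩ := (QuotientGroup.eq_one_iff r).1 h1
    have h2 : C.π r ∈ D ⊓ K := by
      refine ⟨hRD r hr, ?_⟩
      rw [← hn, C.sec]
      exact n.2
    rwa [hDK, Subgroup.mem_bot] at h2
  · rw [← hR1, Subgroup.map_map, Subgroup.map_map]
    rfl
  · rw [ti_iff] at hTI ⊢
    rintro q _ ⟨r', hr', rfl⟩ ⟨r, hr, h1⟩ hne
    obtain ⟨x, rfl⟩ := QuotientGroup.mk_surjective q
    rw [hnorm]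
    refine hTI _ (C.π r') (hRD r' hr') ?_ fun h2 => hne ?_
    · rw [KL' x r r' hr hr' h1.symm]
      exact hRD r hr
    · rw [hR2 r' hr' h2, map_one]
  · intro b hb d
    let N := Subgroup.normalizer (D : Set G)
    letI := Fintype.ofFinite (K.subgroupOf N)
    have hθd := H591.Cliff.isIrr_down hKN hθ
    -- the members of `b` lie over `θ`
    have hb1 : ∀ ξ ∈ b, Ov (K.subgroupOf N).subtype (ξ : N → ℂ) (down K N (θ' : K → ℂ)) := by
      intro ξ hξ
      obtain ⟨χ, hχ, h1⟩ := (indH_subtype.2 hb).exists_ov hM N.subtype_injective hξ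
      obtain ⟨μ, h2⟩ := exists_ov (Subgroup.inclusion hKN) ξ.2
      have h3 := Ov.trans (ι := K.subtype) (fun _ => rfl) (isIrr_isCharacter χ.2) ξ.2 μ.2 h1 h2
      obtain ⟨η, hη⟩ := C.exists_star hθ χ (hX χ hχ)
      have h4 : μ = θ' := by
        by_contra h5
        rw [ov_iff] at h3
        have e1 : (fun n : K => (χ : G → ℂ) (K.subtype n)) = (η : E ⧸ C.s.range → ℂ) 1 • (θ' : K → ℂ) := by
          funext n
          rw [Pi.smul_apply, smul_eq_mul, mul_comm]
          exact res_eq C hη n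
        rw [e1, classInner_smul_left, classInner_irr_ne hθ μ.2 (fun h6 => h5 (Subtype.ext h6.symm)),
          mul_zero] at h3
        exact h3 rfl
      rw [h4] at h2
      exact (ov_src_iff (Subgroup.subgroupOfEquivOfLe hKN) (ι' := (K.subgroupOf N).subtype)
        (fun _ => rfl) _ θ').2 h2
    obtain ⟨ξ₀, hξ₀⟩ := Basic.isPBlock_nonempty hb.1
    obtain ⟨hbs, -⟩ := star_block (resCover C hθ hKN) hM hθd (fun g n => hinv g ⟨n, n.2⟩)
      (by rw [resCover_card, resCover_one]; exact h0'') hb.1 ⟨ξ₀, hξ₀, (ov_subtype_iff (K.subgroupOf N) (ξ₀ : N → ℂ) _).1 (hb1 ξ₀ hξ₀)⟩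
    have h4 := indH_star C hθ h0'' hKN hb hbs hBs
    have hr : (resEmb C hθ hKN).range = Subgroup.normalizer
        ((R.map (QuotientGroup.mk' C.s.range) : Subgroup _) : Set (E ⧸ C.s.range)) := by
      ext q
      obtain ⟨x, rfl⟩ := QuotientGroup.mk_surjective q
      rw [mem_range_resEmb, hnorm]
    rw [cnt_star C hθ h0' (fun χ hχ => (ov_subtype_iff K (χ : G → ℂ) _).2 (hX χ hχ)),
      cnt_star (resCover C hθ hKN) hθd (by rw [resCover_card, resCover_degree]; exact h0') hb1,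
      hE.hom hM (resEmb_injective C hθ hKN) hr h4]

end Cfsg.Agent.TID.Red
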