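import Cfsg.Agent.TID.Red.FR
import Cfsg.Agent.H592.Defect
import Cfsg.Agent.S0908
import Cfsg.Agent.S0912
import Cfsg.Agent.S0917
import Cfsg.Agent.S0920
import Cfsg.Agent.S0959
import Cfsg.Agent.S0965
import Cfsg.Agent.S4438

/-!
# S4622, reductions: the property `Eqv`, the first main theorem and covering along homomorphisms (helper33)
-/

set_option autoImplicit false
set_option linter.style.haveILetI false
set_option linter.unusedSectionVars false

open Cfsg
open scoped ComplexConjugate Pointwise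

namespace Cfsg.Agent.TID.Red

open Cfsg.Agent Cfsg.Agent.Characters.Core Cfsg.Agent.H592.Transport Cfsg.Agent.H592.Transit
open Cfsg.Agent.Blocks Cfsg.Agent.H591.Reynolds

universe u v w

/-- The trivial-intersection hypothesis of S4622. -/
def TI {G : Type u} [Group G] (D : Subgroup G) : Prop :=
  ∀ g : G, g ∉ Subgroup.normalizer (D : Set G) → D ⊓ (MulAut.conj g • D) = ⊥

theorem ti_iff {G : Type u} [Group G] {D : Subgroup G} :
    TI D ↔ ∀ g x : G, x ∈ D → g * x * g⁻¹ ∈ D → x ≠ 1 → g ∈ Subgroup.normalizer (D : Set G) := by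
  constructor
  · intro h g x hx hgx hne
    by_contra hg
    have h1 : g * x * g⁻¹ ∈ D ⊓ (MulAut.conj g • D) :=
      ⟨hgx, Subgroup.smul_mem_pointwise_smul x (MulAut.conj g) D hx⟩
    rw [h g hg, Subgroup.mem_bot] at h1
    apply hne
    calc x = g⁻¹ * (g * x * g⁻¹) * g := by group
      _ = 1 := by rw [h1]; group
  · intro h g hg
    rw [eq_bot_iff]
    rintro y ⟨hy, hy'⟩
    obtain ⟨x, hx, rfl⟩ := (Subgroup.mem_smul_pointwise_iff_exists _ _ _).1 hy'
    by_contra hne
    refine hg (h g x hx hy ?_)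
    rintro rfl
    exact hne (by simp)

/-- The conclusion of S4622 for the block `B` and the subgroup `D`. -/
def Eqv (p : ℕ) (M : Ideal AlgInt) {G : Type u} [Group G] (B : Set (IrrCharacter G)) (D : Subgroup G) : Prop :=
  ∀ b : Set (IrrCharacter (Subgroup.normalizer (D : Set G))),
    IsInducedBlock M (Subgroup.normalizer (D : Set G)) b B → ∀ d, cnt p B d = cnt p b d

variable {p : ℕ} [Fact p.Prime] {M : Ideal AlgInt}

section main

variable {G : Type u} [Group G] [Finite G]

/-- Two defect groups of a block are conjugate. -/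
theorem conj_defect (hM : IsPModular p M) {B : Set (IrrCharacter G)} (hB : IsPBlock M B)
    {D E : Subgroup G} (hD : IsDefectGroup p M B D) (hE : IsDefectGroup p M B E) :
    ∃ x : G, D.map (MulAut.conj x).toMonoidHom = E := by
  have h1 := (S0959.result p M hM B hB D hD D (H592.Defect.isPGroup_of_isDefectGroup hD)).2
    ⟨1, by rw [Blocks.Basic.map_conj_one]⟩
  obtain ⟨x, hx⟩ := (S0959.result p M hM B hB E hE D (H592.Defect.isPGroup_of_isDefectGroup hD)).1 h1
  refine ⟨x, Subgroup.eq_of_le_of_card_ge hx ?_⟩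
  have h3 : Nat.card (D.map (MulAut.conj x).toMonoidHom) = Nat.card D :=
    Nat.card_congr (D.equivMapOfInjective _ (MulAut.conj x).injective).toEquiv.symm
  rw [h3, S0908.result p M hM B hB D hD, S0908.result p M hM B hB E hE]

/-- a normal defect group is the only one -/
theorem defect_eq_of_normal (hM : IsPModular p M) {B : Set (IrrCharacter G)} (hB : IsPBlock M B)
    {D E : Subgroup G} (hD : IsDefectGroup p M B D) (hE : IsDefectGroup p M B E) [hN : D.Normal] : E = D := by
  obtain ⟨x, rfl⟩ := conj_defect hM hB hD hE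
  exact Subgroup.Normal.conj_smul_eq_self x D

omit [Finite G] in
theorem normal_subgroupOf_normalizer (P : Subgroup G) :
    (P.subgroupOf (Subgroup.normalizer (P : Set G))).Normal := ⟨fun a ha g => by
  rw [Subgroup.mem_subgroupOf] at ha ⊢
  exact (Subgroup.mem_normalizer_iff.1 g.2 a).1 ha⟩

/-- A block of `N_G(P)` inducing a block with defect group `P` has defect group `P`. -/
theorem defect_of_induced (hM : IsPModular p M) {P : Subgroup G}
    {B : Set (IrrCharacter G)} (hBP : IsDefectGroup p M B P)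
    {b : Set (IrrCharacter (Subgroup.normalizer (P : Set G)))}
    (hb : IsInducedBlock M (Subgroup.normalizer (P : Set G)) b B) :
    IsDefectGroup p M b (P.subgroupOf (Subgroup.normalizer (P : Set G))) := by
  have hB := hb.2.1
  have hP := H592.Defect.isPGroup_of_isDefectGroup hBP
  obtain ⟨D, hD⟩ := H592.Defect.exists_defectGroup p hM hb.1
  obtain ⟨E, hE, hDE⟩ := Cfsg.Agent.S0917.result p M hM _ _ hb.1 B hB hb D hD
  have hN := normal_subgroupOf_normalizer P
  have h4 : P.subgroupOf (Subgroup.normalizer (P : Set G)) ≤ D := by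
    refine le_trans ?_ (Cfsg.Agent.S0912.result p M hM _ hb.1 D hD)
    exact le_sSup ⟨hN, hP.comap_subtype⟩
  have h5 : Nat.card D ≤ Nat.card (P.subgroupOf (Subgroup.normalizer (P : Set G))) := by
    rw [Nat.card_congr (Subgroup.subgroupOfEquivOfLe Subgroup.le_normalizer).toEquiv,
      Cfsg.Agent.S0908.result p M hM B hB P hBP, ← Cfsg.Agent.S0908.result p M hM B hB E hE,
      Nat.card_congr (D.equivMapOfInjective _ (Subgroup.subtype_injective _)).toEquiv]
    exact Subgroup.card_le_of_le hDE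
  have h6 := Subgroup.eq_of_le_of_card_ge h4 h5
  rw [h6]; exact hD

/-- **First main theorem, uniqueness.** -/
theorem uniq_induced (hM : IsPModular p M) {P : Subgroup G}
    {B : Set (IrrCharacter G)} (hBP : IsDefectGroup p M B P)
    {b b' : Set (IrrCharacter (Subgroup.normalizer (P : Set G)))}
    (hb : IsInducedBlock M (Subgroup.normalizer (P : Set G)) b B)
    (hb' : IsInducedBlock M (Subgroup.normalizer (P : Set G)) b' B) : b = b' := by
  obtain ⟨b₀, -, huniq⟩ := (Cfsg.Agent.S0920.result p M hM P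
    (H592.Defect.isPGroup_of_isDefectGroup hBP)).2 B hb.2.1 hBP
  rw [huniq b ⟨hb.1, defect_of_induced hM hBP hb, hb⟩, huniq b' ⟨hb'.1, defect_of_induced hM hBP hb', hb'⟩]

theorem exists_induced (hM : IsPModular p M) {P : Subgroup G}
    {B : Set (IrrCharacter G)} (hB : IsPBlock M B) (hBP : IsDefectGroup p M B P) :
    ∃ b : Set (IrrCharacter (Subgroup.normalizer (P : Set G))),
      IsInducedBlock M (Subgroup.normalizer (P : Set G)) b B := by
  obtain ⟨b₀, h, -⟩ := (Cfsg.Agent.S0920.result p M hM P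
    (H592.Defect.isPGroup_of_isDefectGroup hBP)).2 B hB hBP
  exact ⟨b₀, h.2.2⟩

/-- **From `Eqv` to the statement of S4622.** -/
theorem final_of_eqv (hM : IsPModular p M) {B : Set (IrrCharacter G)} (hB : IsPBlock M B) {D : Subgroup G}
    (hD : IsDefectGroup p M B D) (h : Eqv p M B D) (d : ℕ) :
    Nat.card {χ : IrrCharacter G // χ ∈ B ∧
      (Nat.card G).factorization p = d + (charDegree (χ : G → ℂ)).factorization p} =
      Nat.card {ψ : IrrCharacter (Subgroup.normalizer (D : Set G)) //
        (∃ b : Set (IrrCharacter (Subgroup.normalizer (D : Set G))), ψ ∈ b ∧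
          IsInducedBlock M (Subgroup.normalizer (D : Set G)) b B) ∧
        (Nat.card (Subgroup.normalizer (D : Set G))).factorization p =
          d + (charDegree (ψ : Subgroup.normalizer (D : Set G) → ℂ)).factorization p} := by
  obtain ⟨b, hb⟩ := exists_induced hM hB hD
  refine (h b hb d).trans (Nat.card_congr (Equiv.subtypeEquivRight fun ψ => and_congr_left' ?_))
  exact ⟨fun h1 => ⟨b, h1, hb⟩, fun ⟨b', h1, h2⟩ => uniq_induced hM hD h2 hb ▸ h1⟩

end main

section hom

variable {X : Type u} {H : Type v} [Group X] [Group H] [Finite X] {ι : H →* X}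

/-- the isomorphism onto a subgroup equal to the range -/
noncomputable def eqvOfRange (hι : Function.Injective ι) {S : Subgroup X} (hS : ι.range = S) : S ≃* H :=
  (MulEquiv.subgroupCongr hS.symm).trans (MonoidHom.ofInjective hι).symm

omit [Finite X] in
theorem eqvOfRange_spec (hι : Function.Injective ι) {S : Subgroup X} (hS : ι.range = S) (s : S) :
    (s : X) = ι (eqvOfRange hι hS s) :=
  (MonoidHom.apply_ofInjective_symm hι (MulEquiv.subgroupCongr hS.symm s)).symm

theorem Eqv.hom (hM : IsPModular p M) (hι : Function.Injective ι) {D : Subgroup X}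
    (hr : ι.range = Subgroup.normalizer (D : Set X)) {B : Set (IrrCharacter X)} (h : Eqv p M B D)
    {b : Set (IrrCharacter H)} (hb : IndH M ι b B) (d : ℕ) : cnt p B d = cnt p b d := by
  have := Local.isPrime_of_isPModular hM
  rw [h _ ((indH_iff_of_equiv (eqvOfRange hι hr) (eqvOfRange_spec hι hr)).1 hb), cnt_trSet]

theorem eqv_of_hom (hM : IsPModular p M) (hι : Function.Injective ι) {D : Subgroup X}
    (hr : ι.range = Subgroup.normalizer (D : Set X)) {B : Set (IrrCharacter X)} (hD : IsDefectGroup p M B D)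
    {b : Set (IrrCharacter H)} (hb : IndH M ι b B) (h : ∀ d, cnt p B d = cnt p b d) : Eqv p M B D := by
  have := Local.isPrime_of_isPModular hM
  intro b' hb' d
  rw [uniq_induced hM hD hb' ((indH_iff_of_equiv (eqvOfRange hι hr) (eqvOfRange_spec hι hr)).1 hb),
    cnt_trSet, h]

theorem uniqH (hM : IsPModular p M) (hι : Function.Injective ι) {D : Subgroup X}
    (hr : ι.range = Subgroup.normalizer (D : Set X)) {B : Set (IrrCharacter X)} (hD : IsDefectGroup p M B D)
    {b b' : Set (IrrCharacter H)} (hb : IndH M ι b B) (hb' : IndH M ι b' B) : b = b' := by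
  have := Local.isPrime_of_isPModular hM
  have h1 := uniq_induced hM hD ((indH_iff_of_equiv (eqvOfRange hι hr) (eqvOfRange_spec hι hr)).1 hb)
    ((indH_iff_of_equiv (eqvOfRange hι hr) (eqvOfRange_spec hι hr)).1 hb')
  rw [← trSet_symm_trSet (eqvOfRange hι hr) b, h1, trSet_symm_trSet]

theorem existsH (hM : IsPModular p M) (hι : Function.Injective ι) {D : Subgroup X}
    (hr : ι.range = Subgroup.normalizer (D : Set X)) {B : Set (IrrCharacter X)} (hB : IsPBlock M B)
    (hD : IsDefectGroup p M B D) : ∃ b : Set (IrrCharacter H), IndH M ι b B := by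
  have := Local.isPrime_of_isPModular hM
  obtain ⟨b, hb⟩ := exists_induced hM hB hD
  refine ⟨trSet (eqvOfRange hι hr).symm b,
    (indH_iff_of_equiv (eqvOfRange hι hr) (eqvOfRange_spec hι hr)).2 ?_⟩
  rwa [trSet_trSet_symm]

/-- **First main theorem**, going up along `ι`. -/
theorem first_main_up (hM : IsPModular p M) (hι : Function.Injective ι) {D : Subgroup X}
    (hr : ι.range = Subgroup.normalizer (D : Set X)) (hDp : IsPGroup p D) {b : Set (IrrCharacter H)}
    (hb : IsPBlock M b) (hbD : IsDefectGroup p M b (D.comap ι)) :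
    ∃ B : Set (IrrCharacter X), IsDefectGroup p M B D ∧ IndH M ι b B := by
  have := Local.isPrime_of_isPModular hM
  have : Finite H := Finite.of_injective ι hι
  have h1 := isDefectGroup_trSet (eqvOfRange hι hr) hbD
  have h2 : (D.comap ι).comap (eqvOfRange hι hr).toMonoidHom =
      D.subgroupOf (Subgroup.normalizer (D : Set X)) := by
    ext s
    rw [Subgroup.mem_subgroupOf, eqvOfRange_spec hι hr s]
    rfl
  rw [h2] at h1
  obtain ⟨B, -, h3, h4⟩ := (S0920.result p M hM D hDp).1 _ (isPBlock_trSet (eqvOfRange hι hr) hb) h1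
  exact ⟨B, h3, (indH_iff_of_equiv (eqvOfRange hι hr) (eqvOfRange_spec hι hr)).2 h4⟩

/-- **Passman's criterion** along `ι`. -/
theorem passmanH (hM : IsPModular p M) [Finite H] (hι : Function.Injective ι) (hn : ι.range.Normal)
    {B : Set (IrrCharacter X)} (hB : IsPBlock M B) {β : Set (IrrCharacter H)} (hβ : IsPBlock M β) :
    CovH ι B β ↔ ∀ χ ∈ B, ∀ θ ∈ β, ∀ k : H,
      MemLocalIdeal M (centralChar (χ : X → ℂ) (ι k) - icc ι (θ : H → ℂ) (ι k)) := by
  have := Local.isPrime_of_isPModular hM
  letI := Fintype.ofFinite X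
  letI := Fintype.ofFinite ι.range
  set e := (MonoidHom.ofInjective hι).symm with he
  have h1 : ∀ k : ι.range, ι.range.subtype k = ι (e k) := fun k => (MonoidHom.apply_ofInjective_symm hι k).symm
  rw [← covH_src_iff e h1]
  have h2 := S0965.result p M hM ι.range B hB (trSet e β) (isPBlock_trSet e hβ)
  have h3 : CovH ι.range.subtype B (trSet e β) ↔ ∃ χ ∈ B, ∃ θ ∈ trSet e β,
      classInner (fun n : ι.range => (χ : X → ℂ) n) (θ : ι.range → ℂ) ≠ 0 := by
    unfold CovH
    simp only [ov_iff]
    rfl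
  rw [h3, h2]
  constructor
  · intro h χ hχ θ hθ k
    rw [← icc_src e ι ι.range.subtype h1]
    exact h χ hχ _ (tr_mem_trSet.2 hθ) ⟨ι k, k, rfl⟩
  · rintro h χ hχ θ hθ ⟨_, k, rfl⟩
    have h4 := h χ hχ _ (mem_trSet.1 hθ) k
    rw [← icc_src e ι ι.range.subtype h1, tr_tr_symm] at h4
    exact h4

/-- the defect groups of a covered block (S4438 along `ι`) -/
theorem exists_defect_inf (hM : IsPModular p M) [Finite H] (hι : Function.Injective ι) (hn : ι.range.Normal)
    {B : Set (IrrCharacter X)} (hB : IsPBlock M B) {β : Set (IrrCharacter H)} (hβ : IsPBlock M β)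
    (hcov : CovH ι B β) {Q : Subgroup H} (hQ : IsDefectGroup p M β Q) :
    ∃ P : Subgroup X, IsDefectGroup p M B P ∧ P.comap ι = Q := by
  have := Local.isPrime_of_isPModular hM
  letI := Fintype.ofFinite X
  letI := Fintype.ofFinite ι.range
  set e := (MonoidHom.ofInjective hι).symm with he
  have h1 : ∀ k : ι.range, ι.range.subtype k = ι (e k) := fun k => (MonoidHom.apply_ofInjective_symm hι k).symm
  obtain ⟨χ, hχ, θ, hθ, h2⟩ := (covH_src_iff e h1).2 hcov
  rw [ov_iff] at h2
  have h3 : (Q.map ι).subgroupOf ι.range = Q.comap e.toMonoidHom := by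
    ext s
    rw [Subgroup.mem_subgroupOf]
    change ι.range.subtype s ∈ _ ↔ e s ∈ Q
    rw [h1, Subgroup.mem_map_iff_mem hι]
  obtain ⟨P, hP, hPQ⟩ := S4438.result p M hM ι.range (trSet e β) (isPBlock_trSet e hβ) (Q.map ι)
    (Subgroup.map_le_range ι Q) (h3 ▸ isDefectGroup_trSet e hQ) B hB ⟨χ, hχ, θ, hθ, h2⟩
  refine ⟨P, hP, ?_⟩
  ext k
  rw [Subgroup.mem_comap, ← Subgroup.mem_map_iff_mem (K := Q) hι, ← hPQ, Subgroup.mem_inf]
  exact ⟨fun h => ⟨h, k, rfl⟩, fun h => h.1⟩

omit [Finite X] in
/-- stabilizing a block means fixing it -/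
theorem stabH_iff_trSet [M.IsPrime] (hι : Function.Injective ι) {x : X} (c : H ≃* H)
    (hc : ∀ k, ι (c k) = x * ι k * x⁻¹) {β : Set (IrrCharacter H)} (hβ : IsPBlock M β) :
    StabH ι β x ↔ trSet c β = β := by
  constructor
  · intro h
    obtain ⟨θ, hθ⟩ := Basic.isPBlock_nonempty hβ
    refine Basic.isPBlock_eq_of_mem (isPBlock_trSet c hβ) hβ (tr_mem_trSet.2 hθ) (h θ hθ _ fun k k' h1 => ?_)
    rw [← hc, hι.eq_iff] at h1
    rw [h1, tr_apply]
  · intro h θ hθ θ' h1
    have h2 : θ' = tr c θ := Subtype.ext (funext fun k => h1 k (c k) (hc k))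
    rw [h2, ← h]
    exact tr_mem_trSet.2 hθ

end hom

/-- **Covering in a square** `L → H → X`, `L → K → X` with `L = H ∩ K`. -/
theorem cov_square (hM : IsPModular p M) {L H K X : Type*} [Group L] [Group H] [Group K] [Group X]
    [Finite L] [Finite H] [Finite K] [Finite X] {lam : L →* H} {mu : L →* K} {ι : H →* X} {κ : K →* X}
    (hsq : ∀ l, ι (lam l) = κ (mu l)) (hlam : Function.Injective lam) (hlamn : lam.range.Normal)
    (hκ : Function.Injective κ) (hκn : κ.range.Normal) (hint : ∀ h, ι h ∈ κ.range → h ∈ lam.range)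
    {e : Set (IrrCharacter L)} {d : Set (IrrCharacter K)} (hed : IndH M mu e d)
    {c : Set (IrrCharacter H)} (hce : CovH lam c e) {B : Set (IrrCharacter X)} (hcB : IndH M ι c B) :
    CovH κ B d := by
  have := Local.isPrime_of_isPModular hM
  rw [passmanH hM hκ hκn hcB.2.1 hed.2.1]
  intro χ hχ θ hθ k
  obtain ⟨ψ, hψ⟩ := Basic.isPBlock_nonempty hcB.1
  obtain ⟨ξ, hξ⟩ := Basic.isPBlock_nonempty hed.1
  have h1 := hcB.2.2 ψ hψ χ hχ (κ k)
  have h2 := icc_congr (M := M) lam ι (ι := ι.comp lam) (fun _ => rfl) (ξ : L → ℂ)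
    (isIrr_isClassFunction ψ.2) (κ k) (fun y hy => by
      obtain ⟨x, hx⟩ := isConj_iff.1 hy
      obtain ⟨l, rfl⟩ := hint y (hx ▸ hκn.conj_mem _ ⟨k, rfl⟩ x)
      exact Local.memLocalIdeal_sub_comm ((passmanH hM hlam hlamn hcB.1 hed.1).1 hce ψ hψ ξ hξ l))
  have h3 := icc_congr (M := M) mu κ (ι := ι.comp lam) hsq (ξ : L → ℂ)
    (isIrr_isClassFunction θ.2) (κ k) (fun y _ => hed.2.2 ξ hξ θ hθ y)
  exact Local.memLocalIdeal_sub_trans (Local.memLocalIdeal_sub_comm h1)
    (Local.memLocalIdeal_sub_trans (Local.memLocalIdeal_sub_comm h2) h3)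

end Cfsg.Agent.TID.Red
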