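import Cfsg.Agent.H592.Transit
import Cfsg.Agent.S0934
import Cfsg.Agent.H591.ReynoldsMain

/-!
# S4622, reductions: basic notions (helper33)

* `cnt p B d` : the number of members of `B` of defect `d`;
* `IndH M ι b B` : block induction along an injective homomorphism `ι`;
* `Ov ι χ θ` : `θ` is a constituent of `χ ∘ ι`;
* `StabH ι β x` : `x` stabilizes the set `β` of characters of the source of `ι`.
-/

set_option autoImplicit false
set_option linter.style.haveILetI false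

open Cfsg
open scoped ComplexConjugate

namespace Cfsg.Agent.TID.Red

open Cfsg.Agent Cfsg.Agent.Characters.Core Cfsg.Agent.H592.Transport Cfsg.Agent.H592.Transit
open Cfsg.Agent.Blocks

universe u v w

/-- The number of members of `B` of defect `d`. -/
noncomputable def cnt (p : ℕ) {G : Type u} [Group G] (B : Set (IrrCharacter G)) (d : ℕ) : ℕ :=
  Nat.card {χ : IrrCharacter G // χ ∈ B ∧
    (Nat.card G).factorization p = d + (charDegree (χ : G → ℂ)).factorization p}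

theorem charDegree_tr {A : Type u} {B : Type v} [Group A] [Group B] (e : A ≃* B) (θ : IrrCharacter B) :
    charDegree (tr e θ : A → ℂ) = charDegree (θ : B → ℂ) := by
  unfold charDegree
  rw [tr_apply, map_one]

theorem trSet_symm_trSet {A : Type u} {B : Type v} [Group A] [Group B] (e : A ≃* B)
    (b : Set (IrrCharacter B)) : trSet e.symm (trSet e b) = b := by
  ext θ
  rw [mem_trSet, MulEquiv.symm_symm, tr_mem_trSet]

theorem trSet_trSet_symm {A : Type u} {B : Type v} [Group A] [Group B] (e : A ≃* B)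
    (b : Set (IrrCharacter A)) : trSet e (trSet e.symm b) = b := by
  ext θ
  rw [mem_trSet, tr_mem_trSet]

/-- counting through a bijection that respects defects -/
theorem cnt_eq_of_equiv {p : ℕ} {A : Type u} {B : Type v} [Group A] [Group B]
    {a : Set (IrrCharacter A)} {b : Set (IrrCharacter B)} (R : IrrCharacter A → IrrCharacter B → Prop)
    (h1 : ∀ χ ∈ a, ∃ ψ ∈ b, R χ ψ) (h2 : ∀ ψ ∈ b, ∃ χ ∈ a, R χ ψ)
    (h3 : ∀ χ ∈ a, ∀ ψ ∈ b, ∀ ψ' ∈ b, R χ ψ → R χ ψ' → ψ = ψ')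
    (h4 : ∀ χ ∈ a, ∀ χ' ∈ a, ∀ ψ ∈ b, R χ ψ → R χ' ψ → χ = χ')
    (h5 : ∀ χ ∈ a, ∀ ψ ∈ b, R χ ψ →
      (Nat.card A).factorization p + (charDegree (ψ : B → ℂ)).factorization p =
        (Nat.card B).factorization p + (charDegree (χ : A → ℂ)).factorization p) (d : ℕ) :
    cnt p a d = cnt p b d := by
  classical
  have : Nonempty (IrrCharacter B) := ⟨⟨fun _ => 1, Basic.isIrrCharacter_one⟩⟩
  choose! f hf1 hf2 using h1
  unfold cnt
  refine Nat.card_congr (Equiv.ofBijective (fun χ => ⟨f χ.1, hf1 _ χ.2.1, ?_⟩) ⟨?_, ?_⟩)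
  · have h6 := h5 _ χ.2.1 _ (hf1 _ χ.2.1) (hf2 _ χ.2.1)
    have h7 := χ.2.2
    omega
  · intro χ χ' h
    have h6 : f χ.1 = f χ'.1 := congrArg Subtype.val h
    exact Subtype.ext (h4 _ χ.2.1 _ χ'.2.1 _ (hf1 _ χ.2.1) (hf2 _ χ.2.1) (h6 ▸ hf2 _ χ'.2.1))
  · rintro ⟨ψ, hψ, hd⟩
    obtain ⟨χ, hχ, hR⟩ := h2 ψ hψ
    have h6 := h5 χ hχ ψ hψ hR
    refine ⟨⟨χ, hχ, by omega⟩, Subtype.ext ?_⟩
    exact h3 χ hχ _ (hf1 χ hχ) ψ hψ (hf2 χ hχ) hR

theorem cnt_trSet (p : ℕ) {A : Type u} {B : Type v} [Group A] [Group B] (e : A ≃* B)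
    (b : Set (IrrCharacter B)) (d : ℕ) : cnt p (trSet e b) d = cnt p b d := by
  refine cnt_eq_of_equiv (fun χ ψ => χ = tr e ψ) ?_ ?_ ?_ ?_ ?_ d
  · intro χ hχ
    exact ⟨tr e.symm χ, mem_trSet.1 hχ, (tr_tr_symm e χ).symm⟩
  · intro ψ hψ
    exact ⟨tr e ψ, tr_mem_trSet.2 hψ, rfl⟩
  · intro χ _ ψ _ ψ' _ h h'
    rw [← tr_symm_tr e ψ, ← h, h', tr_symm_tr]
  · intro χ _ χ' _ ψ _ h h'
    rw [h, h']
  · rintro _ _ ψ _ rfl
    rw [charDegree_tr, Nat.card_congr e.toEquiv]

/-! ### Induction along a homomorphism -/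

/-- The induced central character along `ι`. -/
noncomputable def icc {H : Type u} {G : Type v} [Group H] [Group G] (ι : H →* G) (ξ : H → ℂ) (g : G) : ℂ :=
  ∑ᶠ h ∈ {h : H | IsConj g (ι h)}, ξ h / ξ 1

/-- Block induction along `ι`. -/
def IndH (M : Ideal AlgInt) {H : Type u} {G : Type v} [Group H] [Group G] (ι : H →* G)
    (b : Set (IrrCharacter H)) (B : Set (IrrCharacter G)) : Prop :=
  IsPBlock M b ∧ IsPBlock M B ∧ ∀ ξ ∈ b, ∀ χ ∈ B, ∀ g : G,
    MemLocalIdeal M (icc ι (ξ : H → ℂ) g - centralChar (χ : G → ℂ) g)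

theorem indH_subtype {M : Ideal AlgInt} {G : Type u} [Group G] {H : Subgroup G}
    {b : Set (IrrCharacter H)} {B : Set (IrrCharacter G)} :
    IndH M H.subtype b B ↔ IsInducedBlock M H b B := Iff.rfl

section

variable {A : Type u} {H : Type v} {G : Type w} [Group A] [Group H] [Group G]

theorem icc_src (e : A ≃* H) (ι : H →* G) (ι' : A →* G) (h : ∀ a, ι' a = ι (e a)) (ξ : IrrCharacter H)
    (g : G) : icc ι' (tr e ξ : A → ℂ) g = icc ι (ξ : H → ℂ) g := by
  unfold icc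
  refine finsum_mem_eq_of_bijOn e ⟨?_, e.injective.injOn, ?_⟩ ?_
  · intro a ha
    have h1 : IsConj g (ι' a) := ha
    rw [h a] at h1
    exact h1
  · intro y hy
    refine ⟨e.symm y, ?_, e.apply_symm_apply y⟩
    have h1 : IsConj g (ι y) := hy
    change IsConj g (ι' (e.symm y))
    rw [h, e.apply_symm_apply]
    exact h1
  · intro a _
    rw [tr_apply, tr_apply, map_one]

theorem icc_tgt (e : H ≃* G) (ι : A →* H) (ι' : A →* G) (h : ∀ a, ι' a = e (ι a)) (ξ : A → ℂ) (y : H) :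
    icc ι' ξ (e y) = icc ι ξ y := by
  unfold icc
  refine finsum_mem_congr ?_ fun _ _ => rfl
  ext a
  change IsConj (e y) (ι' a) ↔ IsConj y (ι a)
  rw [h]
  constructor
  · intro h1
    have h2 := e.symm.toMonoidHom.map_isConj h1
    simpa using h2
  · intro h1
    exact e.toMonoidHom.map_isConj h1

variable {M : Ideal AlgInt} [M.IsPrime]

theorem IndH.src (e : A ≃* H) {ι : H →* G} {ι' : A →* G} (h : ∀ a, ι' a = ι (e a))
    {b : Set (IrrCharacter H)} {B : Set (IrrCharacter G)} (hb : IndH M ι b B) :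
    IndH M ι' (trSet e b) B := by
  refine ⟨isPBlock_trSet e hb.1, hb.2.1, fun ξ hξ χ hχ g => ?_⟩
  rw [← tr_tr_symm e ξ, icc_src e ι ι' h]
  exact hb.2.2 _ (mem_trSet.1 hξ) χ hχ g

theorem indH_src_iff (e : A ≃* H) {ι : H →* G} {ι' : A →* G} (h : ∀ a, ι' a = ι (e a))
    {b : Set (IrrCharacter H)} {B : Set (IrrCharacter G)} :
    IndH M ι' (trSet e b) B ↔ IndH M ι b B := by
  refine ⟨fun hb => ?_, IndH.src e h⟩
  have h1 := IndH.src e.symm (ι' := ι) (fun a => by rw [h, e.apply_symm_apply]) hb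
  rwa [trSet_symm_trSet] at h1

theorem IndH.tgt (e : H ≃* G) {ι : A →* H} {ι' : A →* G} (h : ∀ a, ι' a = e (ι a))
    {b : Set (IrrCharacter A)} {B : Set (IrrCharacter G)} (hb : IndH M ι' b B) :
    IndH M ι b (trSet e B) := by
  refine ⟨hb.1, isPBlock_trSet e hb.2.1, fun ξ hξ χ hχ y => ?_⟩
  rw [← tr_tr_symm e χ, centralChar_tr, ← icc_tgt e ι ι' h]
  exact hb.2.2 ξ hξ _ (mem_trSet.1 hχ) _

theorem indH_tgt_iff (e : H ≃* G) {ι : A →* H} {ι' : A →* G} (h : ∀ a, ι' a = e (ι a))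
    {b : Set (IrrCharacter A)} {B : Set (IrrCharacter G)} :
    IndH M ι b (trSet e B) ↔ IndH M ι' b B := by
  refine ⟨fun hb => ?_, IndH.tgt e h⟩
  have h1 := IndH.tgt e.symm (ι := ι') (fun a => by rw [h, e.symm_apply_apply]) hb
  rwa [trSet_symm_trSet] at h1

/-- induction along `ι` is induction from the range -/
theorem indH_iff_range {ι : H →* G} (hι : Function.Injective ι)
    {b : Set (IrrCharacter H)} {B : Set (IrrCharacter G)} :
    IndH M ι b B ↔ IsInducedBlock M ι.range (trSet (MonoidHom.ofInjective hι).symm b) B := by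
  rw [← indH_subtype]
  refine (indH_src_iff (MonoidHom.ofInjective hι).symm fun a => ?_).symm
  exact (MonoidHom.apply_ofInjective_symm hι a).symm

/-- the same with a named subgroup -/
theorem indH_iff_of_equiv {ι : H →* G} {S : Subgroup G} (e : S ≃* H) (he : ∀ s : S, (s : G) = ι (e s))
    {b : Set (IrrCharacter H)} {B : Set (IrrCharacter G)} :
    IndH M ι b B ↔ IsInducedBlock M S (trSet e b) B := by
  rw [← indH_subtype]
  exact (indH_src_iff e he).symm

theorem IndH.unique {ι : H →* G} {b : Set (IrrCharacter H)} {B B' : Set (IrrCharacter G)}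
    (h : IndH M ι b B) (h' : IndH M ι b B') : B = B' := by
  obtain ⟨ξ, hξ⟩ := Basic.isPBlock_nonempty h.1
  obtain ⟨χ, hχ⟩ := Basic.isPBlock_nonempty h.2.1
  obtain ⟨χ', hχ'⟩ := Basic.isPBlock_nonempty h'.2.1
  refine Basic.isPBlock_eq_of_sameBlock h.2.1 h'.2.1 hχ hχ' fun g => ?_
  exact Local.memLocalIdeal_sub_trans (Local.memLocalIdeal_sub_comm (h.2.2 ξ hξ χ hχ g))
    (h'.2.2 ξ hξ χ' hχ' g)

theorem icc_eq_sum [Fintype H] (ι : H →* G) (ξ : H → ℂ) (g : G) [DecidablePred fun h : H => IsConj g (ι h)] :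
    icc ι ξ g = ∑ h : H, (if IsConj g (ι h) then (1 : ℂ) else 0) * (ξ h / ξ 1) := by
  classical
  unfold icc
  have h1 : ∀ h : H, (if IsConj g (ι h) then (1 : ℂ) else 0) * (ξ h / ξ 1) =
      if IsConj g (ι h) then ξ h / ξ 1 else 0 := by
    intro h
    split_ifs <;> simp
  rw [Finset.sum_congr rfl fun h _ => h1 h, ← Finset.sum_filter, ← finsum_mem_finset_eq_sum]
  refine finsum_mem_congr ?_ fun _ _ => rfl
  ext h
  simp

omit [M.IsPrime] in
theorem sum_fiber [Fintype A] [Fintype H] [DecidableEq H] (ι : A →* H) (F : A → ℂ) (t : H) :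
    ∑ᶠ y ∈ {y : H | IsConj t y}, ∑ a with ι a = y, F a = ∑ᶠ a ∈ {a : A | IsConj t (ι a)}, F a := by
  classical
  rw [finsum_mem_eq_finite_toFinset_sum _ (Set.toFinite _), finsum_mem_eq_finite_toFinset_sum _ (Set.toFinite _),
    ← Finset.sum_fiberwise_of_maps_to (s := (Set.toFinite {a : A | IsConj t (ι a)}).toFinset)
      (t := (Set.toFinite {y : H | IsConj t y}).toFinset) (g := ι) (fun a ha => by simpa using ha)]
  refine Finset.sum_congr rfl fun y hy => Finset.sum_congr ?_ fun _ _ => rfl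
  have hy' : IsConj t y := by simpa using hy
  ext a
  simp only [Finset.mem_filter, Finset.mem_univ, true_and, Set.Finite.mem_toFinset, Set.mem_ofPred_eq]
  constructor
  · rintro rfl
    exact ⟨hy', rfl⟩
  · exact fun h => h.2

/-- congruence at central elements with local coefficients -/
theorem memLocalIdeal_of_icc [Fintype A] [Fintype H] (ι : A →* H) (ξ : A → ℂ) {χ : H → ℂ}
    (hχ : IsClassFunction H χ) {f : H → ℂ}
    (h : ∀ y, f y ≠ 0 → MemLocalIdeal M (icc ι ξ y - centralChar χ y))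
    (hf : IsClassFunction H f) (hfR : ∀ y, MemLocalRing M (f y)) :
    MemLocalIdeal M (∑ a : A, f (ι a) * (ξ a / ξ 1) - ∑ y : H, f y * (χ y / χ 1)) := by
  classical
  obtain ⟨T, hT⟩ := ClassSum.exists_reps (G := H)
  have h1 : ∑ a : A, f (ι a) * (ξ a / ξ 1) = ∑ y : H, f y * ∑ a with ι a = y, ξ a / ξ 1 := by
    rw [← Finset.sum_fiberwise Finset.univ ι (fun a => f (ι a) * (ξ a / ξ 1))]
    refine Finset.sum_congr rfl fun y _ => ?_
    rw [Finset.mul_sum]
    refine Finset.sum_congr rfl fun a ha => ?_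
    rw [(Finset.mem_filter.1 ha).2]
  rw [h1, hT f _ hf, hT f _ hf, ← Finset.sum_sub_distrib]
  refine Local.memLocalIdeal_sum fun t _ => ?_
  rw [sum_fiber ι (fun a => ξ a / ξ 1) t, ClassSum.finsum_conj_div hχ, ← mul_sub]
  by_cases ht : f t = 0
  · rw [ht, zero_mul]
    exact Local.memLocalIdeal_zero
  · exact Local.memLocalIdeal_mul_left (hfR t) (h t ht)

omit [M.IsPrime] in
theorem isClassFunction_ind (ι : H →* G) (g : G) [DecidablePred fun h : H => IsConj g (ι h)] :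
    IsClassFunction H (fun k : H => if IsConj g (ι k) then (1 : ℂ) else 0) := by
  intro a x
  change (if IsConj g (ι (x * a * x⁻¹)) then (1 : ℂ) else 0) = if IsConj g (ι a) then 1 else 0
  have h2 : IsConj g (ι (x * a * x⁻¹)) ↔ IsConj g (ι a) := by
    rw [map_mul, map_mul, map_inv]
    constructor
    · intro h3
      exact h3.trans (isConj_iff.2 ⟨(ι x)⁻¹, by group⟩)
    · intro h3
      exact h3.trans (isConj_iff.2 ⟨ι x, rfl⟩)
  by_cases h4 : IsConj g (ι a)
  · rw [if_pos h4, if_pos (h2.2 h4)]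
  · rw [if_neg h4, if_neg (fun h5 => h4 (h2.1 h5))]

/-- the key congruence -/
theorem icc_congr [Finite A] [Finite H] (ι₁ : A →* H) (ι₂ : H →* G) {ι : A →* G} (hι : ∀ a, ι a = ι₂ (ι₁ a))
    (ξ : A → ℂ) {η : H → ℂ} (hη : IsClassFunction H η) (g : G)
    (h : ∀ y, IsConj g (ι₂ y) → MemLocalIdeal M (icc ι₁ ξ y - centralChar η y)) :
    MemLocalIdeal M (icc ι ξ g - icc ι₂ η g) := by
  classical
  have := Fintype.ofFinite A
  have := Fintype.ofFinite H
  have h1 := memLocalIdeal_of_icc (M := M) ι₁ ξ hη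
    (f := fun k : H => if IsConj g (ι₂ k) then (1 : ℂ) else 0)
    (fun y hy => h y (by
      by_contra h2
      exact hy (if_neg h2))) (isClassFunction_ind ι₂ g)
    (by
      intro k
      split_ifs
      · exact Local.memLocalRing_one
      · exact Local.memLocalRing_zero)
  rw [icc_eq_sum, icc_eq_sum]
  convert h1 using 2
  refine Finset.sum_congr rfl fun a _ => ?_
  rw [hι]

/-- **Transitivity.** -/
theorem IndH.trans_iff [Finite A] [Finite H] {ι₁ : A →* H} {ι₂ : H →* G}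
    {ι : A →* G} (hι : ∀ a, ι a = ι₂ (ι₁ a))
    {b : Set (IrrCharacter A)} {C : Set (IrrCharacter H)} (hC : IndH M ι₁ b C)
    {B : Set (IrrCharacter G)} : IndH M ι b B ↔ IndH M ι₂ C B := by
  have key : ∀ ξ ∈ b, ∀ η ∈ C, ∀ g : G, MemLocalIdeal M
      (icc ι (ξ : A → ℂ) g - icc ι₂ (η : H → ℂ) g) := fun ξ hξ η hη g =>
    icc_congr ι₁ ι₂ hι _ (isIrr_isClassFunction η.2) g fun y _ => hC.2.2 ξ hξ η hη y
  constructor
  · rintro ⟨-, hB, h⟩
    refine ⟨hC.2.1, hB, fun η hη χ hχ g => ?_⟩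
    obtain ⟨ξ, hξ⟩ := Basic.isPBlock_nonempty hC.1
    exact Local.memLocalIdeal_sub_trans (Local.memLocalIdeal_sub_comm (key ξ hξ η hη g)) (h ξ hξ χ hχ g)
  · rintro ⟨-, hB, h⟩
    refine ⟨hC.1, hB, fun ξ hξ χ hχ g => ?_⟩
    obtain ⟨η, hη⟩ := Basic.isPBlock_nonempty hC.2.1
    exact Local.memLocalIdeal_sub_trans (key ξ hξ η hη g) (h η hη χ hχ g)

/-- induction along an isomorphism -/
theorem indH_equiv [Finite H] (e : H ≃* G) {B : Set (IrrCharacter G)} (hB : IsPBlock M B) :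
    IndH M e.toMonoidHom (trSet e B) B := by
  have : Finite G := Finite.of_equiv H e.toEquiv
  refine IndH.src e (ι := MonoidHom.id G) (fun _ => rfl) ⟨hB, hB, fun ξ hξ χ hχ g => ?_⟩
  have h1 : icc (MonoidHom.id G) (ξ : G → ℂ) g = centralChar (ξ : G → ℂ) g :=
    ClassSum.finsum_conj_div (isIrr_isClassFunction ξ.2) g
  rw [h1]
  exact Basic.isPBlock_sameBlock hB hξ hχ g

end

/-! ### Constituents along a homomorphism -/

/-- `θ` is a constituent of `χ ∘ ι`. -/
def Ov {A : Type u} {B : Type v} [Group A] [Group B] [Finite A] (ι : A →* B) (χ : B → ℂ) (θ : A → ℂ) : Prop :=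
  @classInner A _ (Fintype.ofFinite A) (fun a => χ (ι a)) θ ≠ 0

theorem ov_iff {A : Type u} {B : Type v} [Group A] [Group B] [Fintype A] (ι : A →* B) (χ : B → ℂ)
    (θ : A → ℂ) : Ov ι χ θ ↔ classInner (fun a => χ (ι a)) θ ≠ 0 := by
  unfold Ov
  rw [Subsingleton.elim (Fintype.ofFinite A) ‹_›]

theorem Ov.congr {A : Type u} {B : Type v} {B' : Type w} [Group A] [Group B] [Group B'] [Finite A]
    {ι : A →* B} {χ : B → ℂ} {ι' : A →* B'} {χ' : B' → ℂ} {θ : A → ℂ} (h : ∀ a, χ' (ι' a) = χ (ι a))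
    (h1 : Ov ι χ θ) : Ov ι' χ' θ := by
  unfold Ov at h1 ⊢
  rwa [funext h]

theorem ov_src_iff {A : Type u} {A' : Type w} {B : Type v} [Group A] [Group A'] [Group B] [Finite A]
    [Finite A'] (e : A' ≃* A) {ι : A →* B} {ι' : A' →* B} (h : ∀ a, ι' a = ι (e a)) (χ : B → ℂ)
    (θ : IrrCharacter A) : Ov ι' χ (tr e θ : A' → ℂ) ↔ Ov ι χ (θ : A → ℂ) := by
  letI := Fintype.ofFinite A
  letI := Fintype.ofFinite A'
  rw [ov_iff, ov_iff, Basic.classInner_def, Basic.classInner_def, Nat.card_congr e.toEquiv]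
  have h1 : ∑ a : A', χ (ι' a) * conj ((tr e θ : A' → ℂ) a) = ∑ a : A, χ (ι a) * conj ((θ : A → ℂ) a) := by
    refine Fintype.sum_equiv e.toEquiv _ _ fun a => ?_
    rw [h, tr_apply]
    rfl
  rw [h1]

theorem isCharacter_comp' {A : Type u} {B : Type v} [Group A] [Group B] (ι : A →* B) {χ : B → ℂ}
    (hχ : IsCharacter B χ) : IsCharacter A (fun a => χ (ι a)) := by
  obtain ⟨n, ρ, hρ⟩ := hχ
  exact ⟨n, ρ.comp ι, by rw [← hρ]; rfl⟩

theorem exists_ov {A : Type u} {B : Type v} [Group A] [Group B] [Finite A] (ι : A →* B) {χ : B → ℂ}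
    (hχ : IsIrrCharacter B χ) : ∃ θ : IrrCharacter A, Ov ι χ (θ : A → ℂ) := by
  letI := Fintype.ofFinite A
  by_contra h
  push Not at h
  have h1 := isCharacter_comp' ι (isIrr_isCharacter hχ)
  have h2 := classFunction_eq_zero (isCharacter_isClassFunction h1) (fun θ hθ => by
    have h3 := h ⟨θ, hθ⟩
    rw [ov_iff] at h3
    exact not_not.1 h3)
  have h4 := congrFun h2 1
  rw [map_one] at h4
  exact isIrr_apply_one_ne_zero hχ h4

/-- constituents of constituents -/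
theorem Ov.trans {A : Type u} {B : Type v} {C : Type w} [Group A] [Group B] [Group C] [Finite A] [Finite B]
    {ι₁ : A →* B} {ι₂ : B →* C} {ι : A →* C} (hι : ∀ a, ι a = ι₂ (ι₁ a)) {χ : C → ℂ} (hχ : IsCharacter C χ)
    {ψ : B → ℂ} (hψ : IsIrrCharacter B ψ) {θ : A → ℂ} (hθ : IsIrrCharacter A θ)
    (h1 : Ov ι₂ χ ψ) (h2 : Ov ι₁ ψ θ) : Ov ι χ θ := by
  letI := Fintype.ofFinite A
  letI := Fintype.ofFinite B
  rw [ov_iff] at h1 h2 ⊢
  have h3 := OddOrderCharacters.Clifford.isCharacter_sub_irr (isCharacter_comp' ι₂ hχ) hψ h1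
  have h4 := isCharacter_comp' ι₁ h3
  have h5 : (fun a => χ (ι a)) = (fun a => ((fun b => χ (ι₂ b)) - ψ) (ι₁ a)) + fun a => ψ (ι₁ a) := by
    funext a
    rw [hι]
    show χ (ι₂ (ι₁ a)) = (χ (ι₂ (ι₁ a)) - ψ (ι₁ a)) + ψ (ι₁ a)
    ring
  obtain ⟨k, hk⟩ := classInner_isNat h4 (isIrr_isCharacter hθ)
  obtain ⟨l, hl⟩ := classInner_isNat (isCharacter_comp' ι₁ (isIrr_isCharacter hψ)) (isIrr_isCharacter hθ)
  rw [h5, classInner_add_left, hk, hl]
  rw [hl] at h2
  intro h0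
  have h6 : k + l = 0 := by exact_mod_cast h0
  apply h2
  have : l = 0 := by omega
  rw [this, Nat.cast_zero]

/-- every member of `b` is a constituent of a member of the induced block -/
theorem IndH.exists_ov {p : ℕ} [Fact p.Prime] {M : Ideal AlgInt} (hM : IsPModular p M) {H : Type u} {G : Type v}
    [Group H] [Group G] [Finite H] [Finite G] {ι : H →* G} (hι : Function.Injective ι)
    {b : Set (IrrCharacter H)} {B : Set (IrrCharacter G)} (h : IndH M ι b B) {ξ : IrrCharacter H} (hξ : ξ ∈ b) :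
    ∃ χ ∈ B, Ov ι (χ : G → ℂ) (ξ : H → ℂ) := by
  have := Local.isPrime_of_isPModular hM
  letI := Fintype.ofFinite G
  letI := Fintype.ofFinite ι.range
  obtain ⟨χ, hχ, h1⟩ := S0934.result p M hM ι.range _ B ((indH_iff_range hι).1 h)
    (tr (MonoidHom.ofInjective hι).symm ξ) (tr_mem_trSet.2 hξ)
  refine ⟨χ, hχ, (ov_src_iff (MonoidHom.ofInjective hι).symm (ι' := ι.range.subtype)
    (fun a => (MonoidHom.apply_ofInjective_symm hι a).symm) _ ξ).1 ?_⟩
  rw [ov_iff]
  exact h1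

/-! ### Stabilizers along a homomorphism -/

/-- `x` maps the set `β` of characters of the source of `ι` into itself. -/
def StabH {K : Type u} {X : Type v} [Group K] [Group X] (ι : K →* X) (β : Set (IrrCharacter K)) (x : X) : Prop :=
  ∀ θ ∈ β, ∀ θ' : IrrCharacter K, (∀ k k' : K, ι k' = x * ι k * x⁻¹ → (θ' : K → ℂ) k = (θ : K → ℂ) k') → θ' ∈ β

theorem stabH_comp {K : Type u} {X : Type v} {Y : Type w} [Group K] [Group X] [Group Y] {ι : K →* X}
    {j : X →* Y} (hj : Function.Injective j) {ι' : K →* Y} (h : ∀ k, ι' k = j (ι k))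
    (β : Set (IrrCharacter K)) (x : X) : StabH ι' β (j x) ↔ StabH ι β x := by
  have key : ∀ k k' : K, ι' k' = j x * ι' k * (j x)⁻¹ ↔ ι k' = x * ι k * x⁻¹ := by
    intro k k'
    rw [h, h, ← map_inv, ← map_mul, ← map_mul, hj.eq_iff]
  unfold StabH
  simp only [key]

theorem stabH_src {K : Type u} {K' : Type w} {X : Type v} [Group K] [Group K'] [Group X] (e : K' ≃* K)
    {ι : K →* X} {ι' : K' →* X} (h : ∀ k, ι' k = ι (e k)) (β : Set (IrrCharacter K)) (x : X) :
    StabH ι' (trSet e β) x ↔ StabH ι β x := by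
  constructor
  · intro h1 θ hθ θ' h2
    refine tr_mem_trSet.1 (h1 (tr e θ) (tr_mem_trSet.2 hθ) (tr e θ') fun k k' h3 => ?_)
    rw [h, h] at h3
    exact h2 _ _ h3
  · intro h1 θ hθ θ' h2
    refine mem_trSet.2 (h1 _ (mem_trSet.1 hθ) _ fun k k' h3 => ?_)
    refine h2 (e.symm k) (e.symm k') ?_
    rw [h, h, e.apply_symm_apply, e.apply_symm_apply]
    exact h3

theorem isStab_iff {G : Type u} [Group G] {K T : Subgroup G} [hK : K.Normal] {β : Set (IrrCharacter K)} :
    H591.Reynolds.IsStab β T ↔ ∀ g, g ∈ T ↔ StabH K.subtype β g := by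
  have key : ∀ (g : G) (θ θ' : IrrCharacter K),
      (∀ n : K, (θ' : K → ℂ) n = (θ : K → ℂ) ⟨g * n * g⁻¹, hK.conj_mem n n.2 g⟩) ↔
      ∀ k k' : K, K.subtype k' = g * K.subtype k * g⁻¹ → (θ' : K → ℂ) k = (θ : K → ℂ) k' := by
    intro g θ θ'
    constructor
    · intro h k k' h1
      rw [h k]
      exact congrArg (θ : K → ℂ) (Subtype.ext h1.symm)
    · intro h n
      exact h n _ rfl
  unfold H591.Reynolds.IsStab StabH
  simp only [key]

/-- the stabilizer of a block of a normal subgroup -/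
theorem exists_isStab {G : Type u} [Group G] {K : Subgroup G} [K.Normal] {M : Ideal AlgInt} [M.IsPrime]
    {β : Set (IrrCharacter K)} (hβ : IsPBlock M β) : ∃ T : Subgroup G, H591.Reynolds.IsStab β T := by
  have key : ∀ g : G, (∀ θ ∈ β, Covering.conjIrr K g θ ∈ β) → ∀ θ ∈ β, Covering.conjIrr K g⁻¹ θ ∈ β := by
    intro g hg θ hθ
    have h1 := Covering.sameBlock_conjIrr K (M := M) g⁻¹ (Basic.isPBlock_sameBlock hβ (hg θ hθ) hθ)
    rw [Covering.conjIrr_conjIrr, mul_inv_cancel, Covering.conjIrr_one] at h1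
    exact Basic.isPBlock_mem_of_sameBlock hβ hθ h1
  refine ⟨{ carrier := {g | ∀ θ ∈ β, Covering.conjIrr K g θ ∈ β}
            one_mem' := fun θ hθ => by rwa [Covering.conjIrr_one]
            mul_mem' := fun {a b} ha hb θ hθ => by
              rw [← Covering.conjIrr_conjIrr]
              exact hb _ (ha θ hθ)
            inv_mem' := fun {g} hg => key g hg }, fun g => ?_⟩
  constructor
  · intro hg θ hθ θ' h
    have h1 : θ' = Covering.conjIrr K g θ := Subtype.ext (funext h)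
    rw [h1]
    exact hg θ hθ
  · intro hg θ hθ
    exact hg θ hθ _ fun _ => rfl

end Cfsg.Agent.TID.Red
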