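import Cfsg.Agent.TID.Red.Basic
import Cfsg.Agent.S4435
import Cfsg.Agent.S4436

/-!
# S4622, reductions: the Fong–Reynolds correspondence preserves the numbers `cnt` (helper33)
-/

set_option autoImplicit false
set_option linter.style.haveILetI false

open Cfsg
open scoped ComplexConjugate

namespace Cfsg.Agent.TID.Red

open Cfsg.Agent Cfsg.Agent.Characters.Core Cfsg.Agent.H592.Transport Cfsg.Agent.H592.Transit
open Cfsg.Agent.Blocks Cfsg.Agent.H591.Reynolds Cfsg.Agent.H591.ReynoldsMain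
open Cfsg.Agent.OddOrderCharacters.PF9.CliffGen (resTo)

universe u v w

variable {p : ℕ} [Fact p.Prime] {M : Ideal AlgInt}

section sub

variable {G : Type u} [Group G] [Finite G] {K T : Subgroup G} [hK : K.Normal] {β : Set (IrrCharacter K)}

omit hK in
theorem ov_inclusion_iff (hKT : K ≤ T) [Fintype K] (ψ : T → ℂ) (θ : K → ℂ) :
    Ov (Subgroup.inclusion hKT) ψ θ ↔ classInner (resTo hKT ψ) θ ≠ 0 := ov_iff _ _ _

/-- the constituents on `K` of the members of a block of `T` covering `β` lie in `β` -/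
theorem mem_of_ov (hM : IsPModular p M) (hβ : IsPBlock M β) (hst : IsStab β T) (hKT : K ≤ T)
    {B' : Set (IrrCharacter T)} (hB' : IsPBlock M B')
    (hcov : ∃ ψ ∈ B', ∃ θ ∈ β, Ov (Subgroup.inclusion hKT) (ψ : T → ℂ) (θ : K → ℂ))
    {ψ : IrrCharacter T} (hψ : ψ ∈ B') {θ : IrrCharacter K}
    (h : Ov (Subgroup.inclusion hKT) (ψ : T → ℂ) (θ : K → ℂ)) : θ ∈ β := by
  letI := Fintype.ofFinite G
  letI := Fintype.ofFinite K
  letI := Fintype.ofFinite T
  obtain ⟨ψ₀, hψ₀, θ₀, hθ₀, h₀⟩ := hcov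
  rw [ov_inclusion_iff] at h h₀
  exact over_of_mem p hM hβ hst hKT hB' hψ₀ hθ₀ h₀ hψ h

theorem FR_cnt (hM : IsPModular p M) (hβ : IsPBlock M β) (hst : IsStab β T) (hKT : K ≤ T)
    {B' : Set (IrrCharacter T)} (hB' : IsPBlock M B')
    (hcov : ∃ ψ ∈ B', ∃ θ ∈ β, Ov (Subgroup.inclusion hKT) (ψ : T → ℂ) (θ : K → ℂ))
    {B : Set (IrrCharacter G)} (hi : IsInducedBlock M T B' B) (d : ℕ) : cnt p B d = cnt p B' d := by
  letI := Fintype.ofFinite G
  letI := Fintype.ofFinite K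
  letI := Fintype.ofFinite T
  have := Local.isPrime_of_isPModular hM
  have hov : ∀ ψ ∈ B', ∃ θ ∈ β, classInner (resTo hKT (ψ : T → ℂ)) (θ : K → ℂ) ≠ 0 := by
    intro ψ hψ
    obtain ⟨θ, hθ⟩ := exists_ov (Subgroup.inclusion hKT) ψ.2
    exact ⟨θ, mem_of_ov hM hβ hst hKT hB' hcov hψ hθ, (ov_inclusion_iff hKT _ _).1 hθ⟩
  obtain ⟨ψ₀, hψ₀, θ₀, hθ₀, h₀⟩ := hcov
  rw [ov_inclusion_iff] at h₀
  have hmem := mem_induced_iff p hM hβ hst hKT hB' hψ₀ hθ₀ h₀ hi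
  have hT0 : T.index ≠ 0 := Subgroup.index_ne_zero_of_finite
  refine cnt_eq_of_equiv (fun χ ψ => (χ : G → ℂ) = indFun T (ψ : T → ℂ)) ?_ ?_ ?_ ?_ ?_ d
  · intro χ hχ
    exact (hmem χ).1 hχ
  · intro ψ hψ
    exact ⟨⟨_, (isInducedBlock_ind p hM hβ hst hKT hB' hψ₀ hθ₀ h₀ hψ).1⟩, (hmem _).2 ⟨ψ, hψ, rfl⟩, rfl⟩
  · intro χ _ ψ hψ ψ' hψ' h h'
    obtain ⟨θ, hθ, h1⟩ := hov ψ hψ
    obtain ⟨θ', hθ', h1'⟩ := hov ψ' hψ'
    refine Subtype.ext (funext fun s => ?_)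
    rw [← sum_blockCoeff_ind hβ hst hKT ψ.2 hθ h1 s, ← sum_blockCoeff_ind hβ hst hKT ψ'.2 hθ' h1' s, ← h, ← h']
  · intro χ _ χ' _ ψ _ h h'
    exact Subtype.ext (h.trans h'.symm)
  · intro χ _ ψ _ h
    have h1 : charDegree (χ : G → ℂ) = T.index * charDegree (ψ : T → ℂ) := by
      apply Basic.charDegree_of_eq
      rw [h, OddOrderCharacters.IndRes.indFun_apply_one, Basic.irr_one_eq_charDegree ψ.2, Nat.cast_mul]
    rw [h1, Nat.factorization_mul hT0 (Basic.charDegree_pos ψ.2).ne', ← Subgroup.card_mul_index T,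
      Nat.factorization_mul (Nat.card_pos (α := T)).ne' hT0, Finsupp.add_apply, Finsupp.add_apply]
    omega

theorem FR_defect (hM : IsPModular p M) (hβ : IsPBlock M β) (hst : IsStab β T) (hKT : K ≤ T)
    {B' : Set (IrrCharacter T)} (hB' : IsPBlock M B')
    (hcov : ∃ ψ ∈ B', ∃ θ ∈ β, Ov (Subgroup.inclusion hKT) (ψ : T → ℂ) (θ : K → ℂ))
    {B : Set (IrrCharacter G)} (hi : IsInducedBlock M T B' B) {D : Subgroup T}
    (hD : IsDefectGroup p M B' D) : IsDefectGroup p M B (D.map T.subtype) := by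
  letI := Fintype.ofFinite G
  letI := Fintype.ofFinite K
  letI := Fintype.ofFinite T
  obtain ⟨ψ₀, hψ₀, θ₀, hθ₀, h₀⟩ := hcov
  rw [ov_inclusion_iff] at h₀
  exact (S4436.result p M hM K β hβ T hst hKT B' hB' ⟨ψ₀, hψ₀, θ₀, hθ₀, h₀⟩ B hi).1 D hD

theorem FR_up (hM : IsPModular p M) (hβ : IsPBlock M β) (hst : IsStab β T) (hKT : K ≤ T)
    {B' : Set (IrrCharacter T)} (hB' : IsPBlock M B')
    (hcov : ∃ ψ ∈ B', ∃ θ ∈ β, Ov (Subgroup.inclusion hKT) (ψ : T → ℂ) (θ : K → ℂ)) :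
    ∃ B : Set (IrrCharacter G), IsInducedBlock M T B' B := by
  letI := Fintype.ofFinite G
  letI := Fintype.ofFinite K
  letI := Fintype.ofFinite T
  obtain ⟨ψ₀, hψ₀, θ₀, hθ₀, h₀⟩ := hcov
  rw [ov_inclusion_iff] at h₀
  exact ⟨_, (isInducedBlock_ind p hM hβ hst hKT hB' hψ₀ hθ₀ h₀ hψ₀).2⟩

theorem FR_down (hM : IsPModular p M) (hβ : IsPBlock M β) (hst : IsStab β T) (hKT : K ≤ T)
    {B : Set (IrrCharacter G)} (hB : IsPBlock M B)
    (hcov : ∃ χ ∈ B, ∃ θ ∈ β, Ov K.subtype (χ : G → ℂ) (θ : K → ℂ)) :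
    ∃ B' : Set (IrrCharacter T), IsPBlock M B' ∧
      (∃ ψ ∈ B', ∃ θ ∈ β, Ov (Subgroup.inclusion hKT) (ψ : T → ℂ) (θ : K → ℂ)) ∧ IsInducedBlock M T B' B := by
  letI := Fintype.ofFinite G
  letI := Fintype.ofFinite K
  letI := Fintype.ofFinite T
  obtain ⟨χ, hχ, θ, hθ, h⟩ := hcov
  rw [ov_iff] at h
  obtain ⟨B', h1, ⟨ψ, hψ, θ', hθ', h2⟩, h3⟩ :=
    (S4435.result p M hM K β hβ T hst hKT).2.2 B hB ⟨χ, hχ, θ, hθ, h⟩
  exact ⟨B', h1, ⟨ψ, hψ, θ', hθ', (ov_inclusion_iff hKT _ _).2 h2⟩, h3⟩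

end sub

/-- `B` covers `β` along `ι`. -/
def CovH {K : Type u} {X : Type v} [Group K] [Group X] [Finite K] (ι : K →* X) (B : Set (IrrCharacter X))
    (β : Set (IrrCharacter K)) : Prop :=
  ∃ χ ∈ B, ∃ θ ∈ β, Ov ι (χ : X → ℂ) (θ : K → ℂ)

theorem covH_tr_iff {K : Type u} {X : Type v} {K' X' : Type*} [Group K] [Group X] [Group K'] [Group X']
    [Finite K] [Finite K'] (eK : K' ≃* K) (eX : X' ≃* X) {ι : K →* X} {ι' : K' →* X'}
    (h : ∀ k, eX (ι' k) = ι (eK k)) {B : Set (IrrCharacter X)} {β : Set (IrrCharacter K)} :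
    CovH ι' (trSet eX B) (trSet eK β) ↔ CovH ι B β := by
  have key : ∀ (ψ : IrrCharacter X) (θ : IrrCharacter K),
      Ov ι' (tr eX ψ : X' → ℂ) (tr eK θ : K' → ℂ) ↔ Ov ι (ψ : X → ℂ) (θ : K → ℂ) := by
    intro ψ θ
    rw [← ov_src_iff eK (ι := ι) (ι' := ι.comp eK.toMonoidHom) (fun _ => rfl) (ψ : X → ℂ) θ]
    constructor
    · exact Ov.congr fun a => congrArg (ψ : X → ℂ) (h a).symm
    · exact Ov.congr fun a => congrArg (ψ : X → ℂ) (h a)
  constructor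
  · rintro ⟨ψ, hψ, θ, hθ, h1⟩
    refine ⟨_, mem_trSet.1 hψ, _, mem_trSet.1 hθ, (key _ _).1 ?_⟩
    rwa [tr_tr_symm, tr_tr_symm]
  · rintro ⟨ψ, hψ, θ, hθ, h1⟩
    exact ⟨_, tr_mem_trSet.2 hψ, _, tr_mem_trSet.2 hθ, (key _ _).2 h1⟩

theorem covH_src_iff {K : Type u} {X : Type v} {K' : Type w} [Group K] [Group X] [Group K']
    [Finite K] [Finite K'] (eK : K' ≃* K) {ι : K →* X} {ι' : K' →* X}
    (h : ∀ k, ι' k = ι (eK k)) {B : Set (IrrCharacter X)} {β : Set (IrrCharacter K)} :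
    CovH ι' B (trSet eK β) ↔ CovH ι B β :=
  covH_tr_iff eK (MulEquiv.refl X) h

theorem map_comap_ofInjective {T : Type v} {X : Type u} [Group T] [Group X] {τ : T →* X}
    (hτ : Function.Injective τ) (D : Subgroup T) :
    (D.comap (MonoidHom.ofInjective hτ).symm.toMonoidHom).map τ.range.subtype = D.map τ := by
  ext x
  constructor
  · rintro ⟨y, hy, rfl⟩
    exact ⟨_, hy, MonoidHom.apply_ofInjective_symm hτ y⟩
  · rintro ⟨t, ht, rfl⟩
    refine ⟨MonoidHom.ofInjective hτ t, ?_, rfl⟩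
    change (MonoidHom.ofInjective hτ).symm (MonoidHom.ofInjective hτ t) ∈ D
    rwa [MulEquiv.symm_apply_apply]

section hom

variable {X : Type u} {T : Type v} {K : Type w} [Group X] [Group T] [Group K]
  [Finite X] [Finite T] [Finite K] {κ : K →* T} {τ : T →* X} {ι : K →* X}

omit [Finite X] [Finite T] [Finite K] in
theorem range_le_of_comp (hι : ∀ k, ι k = τ (κ k)) : ι.range ≤ τ.range := by
  rintro _ ⟨k, rfl⟩
  exact ⟨κ k, (hι k).symm⟩

omit [Finite X] [Finite T] [Finite K] in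
theorem isStab_range (hi : Function.Injective ι) [ι.range.Normal] {β : Set (IrrCharacter K)}
    (hst : ∀ x : X, x ∈ τ.range ↔ StabH ι β x) :
    IsStab (trSet (MonoidHom.ofInjective hi).symm β) τ.range := by
  rw [isStab_iff]
  intro g
  rw [hst, stabH_src (MonoidHom.ofInjective hi).symm (ι := ι) (ι' := ι.range.subtype)
    (fun k => (MonoidHom.apply_ofInjective_symm hi k).symm)]

omit [Finite T] in
theorem covH_range_iff (hι : ∀ k, ι k = τ (κ k)) (hi : Function.Injective ι) (hτ : Function.Injective τ)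
    {β : Set (IrrCharacter K)} {B' : Set (IrrCharacter T)} :
    CovH (Subgroup.inclusion (range_le_of_comp hι)) (trSet (MonoidHom.ofInjective hτ).symm B')
      (trSet (MonoidHom.ofInjective hi).symm β) ↔ CovH κ B' β := by
  refine covH_tr_iff _ _ fun k => hτ ?_
  rw [MonoidHom.apply_ofInjective_symm, ← hι, MonoidHom.apply_ofInjective_symm]
  rfl

/-- **Fong–Reynolds along homomorphisms** `K → T → X`. -/
theorem FRH (hM : IsPModular p M) (hι : ∀ k, ι k = τ (κ k)) (hi : Function.Injective ι)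
    (hτ : Function.Injective τ) (hn : ι.range.Normal) {β : Set (IrrCharacter K)} (hβ : IsPBlock M β)
    (hst : ∀ x : X, x ∈ τ.range ↔ StabH ι β x) {B' : Set (IrrCharacter T)} (hB' : IsPBlock M B')
    (hcov : CovH κ B' β) :
    ∃ B : Set (IrrCharacter X), IndH M τ B' B ∧ (∀ d, cnt p B d = cnt p B' d) ∧
      ∀ D : Subgroup T, IsDefectGroup p M B' D → IsDefectGroup p M B (D.map τ) := by
  have := Local.isPrime_of_isPModular hM
  have hst' := isStab_range hi hst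
  have hcov' := (covH_range_iff hι hi hτ).2 hcov
  have hβ' := isPBlock_trSet (MonoidHom.ofInjective hi).symm hβ
  have hB'' := isPBlock_trSet (MonoidHom.ofInjective hτ).symm hB'
  obtain ⟨B, hB⟩ := FR_up hM hβ' hst' _ hB'' hcov'
  refine ⟨B, (indH_iff_range hτ).2 hB, fun d => ?_, fun D hD => ?_⟩
  · rw [FR_cnt hM hβ' hst' _ hB'' hcov' hB, cnt_trSet]
  · rw [← map_comap_ofInjective hτ]
    exact FR_defect hM hβ' hst' _ hB'' hcov' hB (isDefectGroup_trSet _ hD)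

theorem FRH_down (hM : IsPModular p M) (hι : ∀ k, ι k = τ (κ k)) (hi : Function.Injective ι)
    (hτ : Function.Injective τ) (hn : ι.range.Normal) {β : Set (IrrCharacter K)} (hβ : IsPBlock M β)
    (hst : ∀ x : X, x ∈ τ.range ↔ StabH ι β x) {B : Set (IrrCharacter X)} (hB : IsPBlock M B)
    (hcov : CovH ι B β) :
    ∃ B' : Set (IrrCharacter T), IsPBlock M B' ∧ CovH κ B' β ∧ IndH M τ B' B ∧
      (∀ d, cnt p B d = cnt p B' d) ∧
      ∀ D : Subgroup T, IsDefectGroup p M B' D → IsDefectGroup p M B (D.map τ) := by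
  have := Local.isPrime_of_isPModular hM
  have hst' := isStab_range hi hst
  have hβ' := isPBlock_trSet (MonoidHom.ofInjective hi).symm hβ
  have hcov' : CovH ι.range.subtype B (trSet (MonoidHom.ofInjective hi).symm β) :=
    (covH_src_iff _ (fun k => (MonoidHom.apply_ofInjective_symm hi k).symm)).2 hcov
  obtain ⟨B', h1, h2, h3⟩ := FR_down hM hβ' hst' (range_le_of_comp hι) hB hcov'
  rw [← trSet_symm_trSet (MonoidHom.ofInjective hτ) B'] at h2 h3
  have h4 := isPBlock_trSet (MonoidHom.ofInjective hτ) h1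
  have h5 := (covH_range_iff hι hi hτ).1 h2
  have h6 := (indH_iff_range hτ).2 h3
  obtain ⟨B₁, h7, h8, h9⟩ := FRH hM hι hi hτ hn hβ hst h4 h5
  obtain rfl := h7.unique h6
  exact ⟨_, h4, h5, h6, h8, h9⟩

end hom

end Cfsg.Agent.TID.Red
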